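import Cfsg.Agent.Lib.Involutions.RankOne.Sz.Coords
import Cfsg.Agent.Lib.Involutions.RankOne.Peterfalvi
import Cfsg.Agent.Lib.Involutions.RankOne.Canonical
import Cfsg.Agent.S0205

/-!
# Coordinates in the rank-one set-up, and the non-centrality of `r`

`r` is the element of `Q` with `t s t = r⁻¹ t r`.  If it were an involution, the involutions of `G_a`,
the inverted torus and `t` would generate a group of order `q (q - 1) (q + 1)`; an element of prime
order dividing `q + 1` in it is strongly real with a fixed point, hence conjugate into the torus.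
-/

set_option autoImplicit false
set_option linter.style.haveILetI false
set_option linter.unusedSectionVars false
set_option linter.unusedVariables false

namespace Cfsg.Agent.Involutions.RankOne.Sz

open Cfsg.Agent.Involutions.Suzuki (Regular)
open Involutions.Basic

variable {G Ω : Type*} [Group G] [Finite G] [MulAction G Ω] {a : Ω} {t : G} {Q : Subgroup G}

local notation "H" => MulAction.stabilizer G a
local notation "D" => (MulAction.stabilizer G a ⊓ MulAction.stabilizer G (t • a))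

variable (a t Q) in
/-- Coordinates on `Q` in which the inverted torus is diagonal. -/
structure Coord {F : Type*} [Field F] (φ : F ≃+* F) (X : F → F → G) (K : F → G) : Prop where
  X_mem : ∀ x y, X x y ∈ Q
  X_surj : ∀ g ∈ Q, ∃ x y, X x y = g
  X_inj : ∀ x y x' y', X x y = X x' y' → x = x' ∧ y = y'
  X_mul : ∀ x y x' y', X x y * X x' y' = X (x + x') (y + y' + φ x * x')
  K_mem : ∀ l, l ≠ 0 → K l ∈ Cfsg.invertedBy D t
  K_surj : ∀ k ∈ Cfsg.invertedBy D t, ∃ l, l ≠ 0 ∧ K l = k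
  K_inj : ∀ l l', l ≠ 0 → l' ≠ 0 → K l = K l' → l = l'
  K_mul : ∀ l m, l ≠ 0 → m ≠ 0 → K (l * m) = K l * K m
  conj : ∀ l, l ≠ 0 → ∀ x y, K l * X x y = X (l * x) (φ l * l * y) * K l

/-- A 2-group of type A in the place of `Q` has diagonal coordinates. -/
theorem exists_coord [FaithfulSMul G Ω] (hS : Cfsg.IsRankOneSetup G Ω a t Q)
    (h2 : ∃ x y : G, x ≠ 1 ∧ y ≠ 1 ∧ x ≠ y ∧ x * x = 1 ∧ y * y = 1 ∧ x * y = y * x)
    (hQ : IsPGroup 2 Q) (hP : Cfsg.IsSuzukiTwoGroup Q)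
    (hcard : Nat.card Q = Nat.card (Subgroup.center Q) ^ 2) :
    ∃ (F : Type) (_ : Field F) (_ : Fintype F) (_ : CharP F 2) (φ : F ≃+* F) (X : F → F → G)
      (K : F → G), φ ≠ RingEquiv.refl F ∧ Odd (orderOf φ) ∧ Coord a t Q φ X K := by
  classical
  obtain ⟨C, hC, hcyc, hCn⟩ := inverted_cyclic_normal hS h2 (Cfsg.Agent.S0205.result hS.odd_card)
  have hCm : ∀ x, x ∈ C ↔ x ∈ Cfsg.invertedBy D t := fun x => Set.ext_iff.1 hC x
  have hCQ : C ≤ Subgroup.normalizer (Q : Set G) := fun c hc =>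
    (Subgroup.le_normalizer_iff.2 hS.conj_mem : H ≤ Subgroup.normalizer (Q : Set G))
      ((hCm c).1 hc).1.1
  let ν : C →* MulAut Q := (Subgroup.normalizerMonoidHom Q).comp (Subgroup.inclusion hCQ)
  have hν : ∀ (c : C) (x : Q), ((ν c x : Q) : G) = (c : G) * x * (c : G)⁻¹ := fun c x => rfl
  have hinvol : ∀ x : Q, x ≠ 1 → x * x = 1 → (x : G) ∈ Cfsg.involutionsIn (H : Set G) :=
    fun x hx hx2 => ⟨hS.le x.2, fun e => hx (Subtype.ext e), congrArg Subtype.val hx2⟩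
  obtain ⟨s₀, hs₀, -⟩ := exists_two hS h2
  let s₁ : Q := ⟨s₀, involution_mem hS hs₀.1 hs₀.2.2⟩
  have hνinj : Function.Injective ν := fun c c' e => by
    have h1 := congrArg (fun f : MulAut Q => ((f s₁ : Q) : G)) e
    simp only [hν] at h1
    exact Subtype.ext (K_conj_injective hS hs₀ ((hCm _).1 c.2) ((hCm _).1 c'.2) h1)
  have hreg : Regular ν.range := by
    refine ⟨?_, fun x hx g => ?_, fun x y hx hx2 hy hy2 => ?_⟩
    · rintro ⟨_, c, rfl⟩ ⟨_, c', rfl⟩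
      refine Subtype.ext (show ν c * ν c' = ν c' * ν c from ?_)
      letI : CommGroup C := IsCyclic.commGroup
      rw [← map_mul, ← map_mul, mul_comm]
    · by_cases hx1 : x = 1
      · rw [hx1, one_mul, mul_one]
      · exact Subtype.ext (involution_central hS h2 (hinvol x hx1 hx) g.2).symm
    · obtain ⟨k, hk, hkx⟩ := exists_K hS (hinvol x hx hx2) (hinvol y hy hy2)
      refine ⟨⟨ν ⟨k, (hCm k).2 hk⟩, _, rfl⟩, Subtype.ext hkx, ?_⟩
      rintro ⟨_, c, rfl⟩ hc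
      have h1 := congrArg Subtype.val hc
      have h3 : (c : G) = k := K_conj_injective hS (hinvol x hx hx2) ((hCm _).1 c.2) hk
        (h1.trans hkx.symm)
      exact Subtype.ext (congrArg ν (Subtype.ext h3))
  obtain ⟨F, iF, iT, iC, φ, X, κ, hφ, hodd, -, hbij, hmul, hκs, hκm, hκi, hκ⟩ :=
    exists_coords hreg hQ hP.2.2.1 hcard
  let e : C ≃* ν.range := MonoidHom.ofInjective hνinj
  refine ⟨F, iF, iT, iC, φ, fun x y => (X x y : G), fun l => ((e.symm (κ l) : C) : G), hφ, hodd,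
    ?_, ?_, ?_, ?_, ?_, ?_, ?_, ?_, ?_⟩
  · exact fun x y => (X x y).2
  · intro g hg
    obtain ⟨⟨x, y⟩, hxy⟩ := hbij.2 ⟨g, hg⟩
    exact ⟨x, y, congrArg Subtype.val hxy⟩
  · intro x y x' y' h
    have h1 := hbij.1 (a₁ := (x, y)) (a₂ := (x', y')) (Subtype.ext h)
    exact ⟨congrArg Prod.fst h1, congrArg Prod.snd h1⟩
  · intro x y x' y'
    exact congrArg Subtype.val (hmul x y x' y')
  · intro l hl
    exact (hCm _).1 (e.symm (κ l)).2
  · intro k hk
    obtain ⟨l, hl, hlk⟩ := hκs (e ⟨k, (hCm k).2 hk⟩)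
    exact ⟨l, hl, by rw [hlk, e.symm_apply_apply]⟩
  · intro l l' hl hl' h
    exact hκi l l' hl hl' (e.symm.injective (Subtype.ext h))
  · intro l m hl hm
    rw [hκm l m hl hm, map_mul]
    rfl
  · intro l hl x y
    have h1 := congrArg Subtype.val (hκ l hl x y)
    have h3 : (κ l : MulAut Q) = ν (e.symm (κ l)) := by
      conv_lhs => rw [← e.apply_symm_apply (κ l)]
      rfl
    rw [h3, hν] at h1
    exact mul_inv_eq_iff_eq_mul.1 h1

namespace Coord

variable {F : Type*} [Field F] {φ : F ≃+* F} {X : F → F → G} {K : F → G}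

theorem X_zero (hc : Coord a t Q φ X K) : X 0 0 = 1 := by
  have e1 := hc.X_mul 0 0 0 0
  rw [map_zero, zero_mul, add_zero, add_zero] at e1
  exact mul_eq_left.1 e1

theorem K_one (hc : Coord a t Q φ X K) : K 1 = 1 := by
  have e1 := hc.K_mul 1 1 one_ne_zero one_ne_zero
  rw [one_mul] at e1
  exact mul_eq_left.1 e1.symm

theorem K_pow (hc : Coord a t Q φ X K) {l : F} (hl : l ≠ 0) (n : ℕ) : K (l ^ n) = K l ^ n := by
  induction n with
  | zero => rw [pow_zero, pow_zero, hc.K_one]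
  | succ n ih => rw [pow_succ, pow_succ, hc.K_mul _ _ (pow_ne_zero n hl) hl, ih]

theorem K_inv (hc : Coord a t Q φ X K) {l : F} (hl : l ≠ 0) : (K l)⁻¹ = K l⁻¹ :=
  inv_eq_of_mul_eq_one_right (by
    rw [← hc.K_mul l l⁻¹ hl (inv_ne_zero hl), mul_inv_cancel₀ hl, hc.K_one])

theorem t_K (hc : Coord a t Q φ X K) (hS : Cfsg.IsRankOneSetup G Ω a t Q) {l : F} (hl : l ≠ 0) :
    t * K l = K l⁻¹ * t := by
  rw [← hc.K_inv hl, ← (hc.K_mem l hl).2, inv_mul_cancel_right]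

variable [CharP F 2]

theorem center_sq (hc : Coord a t Q φ X K) (y : F) : X 0 y * X 0 y = 1 := by
  rw [hc.X_mul, map_zero, zero_mul, add_zero, add_zero, CharTwo.add_self_eq_zero, hc.X_zero]

theorem involution_form (hc : Coord a t Q φ X K) (hS : Cfsg.IsRankOneSetup G Ω a t Q) {s : G}
    (hs : s ∈ Cfsg.involutionsIn (H : Set G)) : ∃ y, y ≠ 0 ∧ s = X 0 y := by
  obtain ⟨x, y, rfl⟩ := hc.X_surj s (involution_mem hS hs.1 hs.2.2)
  have h1 := hs.2.2
  rw [hc.X_mul, ← hc.X_zero, CharTwo.add_self_eq_zero] at h1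
  have h3 := (hc.X_inj _ _ _ _ h1).2
  rw [CharTwo.add_self_eq_zero, zero_add, mul_eq_zero] at h3
  obtain rfl : x = 0 := h3.elim (fun e => (map_eq_zero φ).1 e) id
  exact ⟨y, fun e => hs.2.1 (by rw [e, hc.X_zero]), rfl⟩

theorem involution_of (hc : Coord a t Q φ X K) (hS : Cfsg.IsRankOneSetup G Ω a t Q) {y : F}
    (hy : y ≠ 0) : X 0 y ∈ Cfsg.involutionsIn (H : Set G) :=
  ⟨hS.le (hc.X_mem 0 y), fun e => hy (hc.X_inj 0 y 0 0 (e.trans hc.X_zero.symm)).2, hc.center_sq y⟩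

theorem canon (hc : Coord a t Q φ X K) (hS : Cfsg.IsRankOneSetup G Ω a t Q)
    {x y l u v x' y' l' u' v' : F} (hl : l ≠ 0) (hl' : l' ≠ 0)
    (h : X x y * K l * t * X u v = X x' y' * K l' * t * X u' v') :
    x = x' ∧ y = y' ∧ l = l' ∧ u = u' ∧ v = v' := by
  obtain ⟨e1, e2, e3⟩ := canon_unique hS (hc.X_mem x y) (hc.X_mem x' y') (hc.K_mem l hl).1
    (hc.K_mem l' hl').1 (hc.X_mem u v) (hc.X_mem u' v') h
  exact ⟨(hc.X_inj _ _ _ _ e1).1, (hc.X_inj _ _ _ _ e1).2, hc.K_inj l l' hl hl' e2,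
    (hc.X_inj _ _ _ _ e3).1, (hc.X_inj _ _ _ _ e3).2⟩

theorem ne_one (hc : Coord a t Q φ X K) (hS : Cfsg.IsRankOneSetup G Ω a t Q) {x y l u v : F}
    (hl : l ≠ 0) : X x y * K l * t * X u v ≠ 1 := fun h => by
  refine hS.not_mem ?_
  have e : t = (X x y * K l)⁻¹ * (X u v)⁻¹ :=
    eq_inv_mul_iff_mul_eq.2 (mul_eq_one_iff_eq_inv.1 h)
  rw [e]
  exact mul_mem (inv_mem (mul_mem (hS.le (hc.X_mem x y)) (hc.K_mem l hl).1.1))
    (inv_mem (hS.le (hc.X_mem u v)))

theorem eq_one (hc : Coord a t Q φ X K) (hS : Cfsg.IsRankOneSetup G Ω a t Q) {x y l : F}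
    (hl : l ≠ 0) (h : X x y * K l = 1) : x = 0 ∧ y = 0 ∧ l = 1 := by
  obtain ⟨e1, e2⟩ := eq_of_decomp hS (hc.X_mem x y) (one_mem Q) (hc.K_mem l hl).1
    (one_mem D) (h.trans (one_mul 1).symm)
  rw [← hc.X_zero] at e1
  rw [← hc.K_one] at e2
  exact ⟨(hc.X_inj _ _ _ _ e1).1, (hc.X_inj _ _ _ _ e1).2, hc.K_inj l 1 hl one_ne_zero e2⟩

theorem card_points' (hc : Coord a t Q φ X K) (hS : Cfsg.IsRankOneSetup G Ω a t Q) :
    Nat.card Ω = Nat.card F ^ 2 + 1 := by
  have e : Nat.card (F × F) = Nat.card Q := Nat.card_congr (Equiv.ofBijective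
    (fun p : F × F => (⟨X p.1 p.2, hc.X_mem _ _⟩ : Q))
    ⟨fun p p' h => Prod.ext (hc.X_inj _ _ _ _ (congrArg Subtype.val h)).1
      (hc.X_inj _ _ _ _ (congrArg Subtype.val h)).2, fun g => by
      obtain ⟨x, y, h⟩ := hc.X_surj g g.2
      exact ⟨(x, y), Subtype.ext h⟩⟩)
  rw [card_points hS, ← e, Nat.card_prod, sq]

theorem nm_injective (hc : Coord a t Q φ X K) (hS : Cfsg.IsRankOneSetup G Ω a t Q) :
    Function.Injective (fun x : F => φ x * x) := by
  intro x y h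
  have h' : φ x * x = φ y * y := h
  rcases eq_or_ne x 0 with rfl | hx
  · rw [mul_zero, eq_comm, mul_eq_zero] at h'
    exact (h'.elim (fun e => (map_eq_zero φ).1 e) id).symm
  rcases eq_or_ne y 0 with rfl | hy
  · rw [mul_zero, mul_eq_zero] at h'
    exact h'.elim (fun e => (map_eq_zero φ).1 e) id
  refine hc.K_inj x y hx hy (K_conj_injective hS (hc.involution_of hS one_ne_zero)
    (hc.K_mem x hx) (hc.K_mem y hy) ?_)
  rw [mul_inv_eq_iff_eq_mul.2 (hc.conj x hx 0 1), mul_inv_eq_iff_eq_mul.2 (hc.conj y hy 0 1), mul_zero,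
    mul_zero, h']

variable [Fintype F]

/-- The element `r` is not central. -/
theorem pair_noncentral (hc : Coord a t Q φ X K) (hS : Cfsg.IsRankOneSetup G Ω a t Q) {e b : F}
    (he : e ≠ 0) : t * X 0 e * t ≠ (X 0 b)⁻¹ * t * X 0 b := by
  intro hb
  have hb0 : b ≠ 0 := fun e0 => by
    rw [e0, hc.X_zero, inv_one, one_mul, mul_one] at hb
    refine hS.ne_one ?_
    have h1 : t * X 0 e = 1 := mul_eq_right.1 hb
    exact absurd (hS.le (hc.X_mem 0 e)) (by
      rw [eq_inv_of_mul_eq_one_right h1]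
      exact fun hm => hS.not_mem (inv_mem_iff.1 hm))
  have hinv : ∀ y, (X 0 y)⁻¹ = X 0 y := fun y => inv_eq_of_mul_eq_one_right (hc.center_sq y)
  have ht : ∀ g : G, t * (t * g) = g := fun g => by rw [← mul_assoc, hS.mul_self, one_mul]
  have hconj : ∀ l, l ≠ 0 → t * X 0 (φ l * l * e) * t =
      X 0 (φ l⁻¹ * l⁻¹ * b) * K (l⁻¹ * l⁻¹) * t * X 0 (φ l⁻¹ * l⁻¹ * b) := by
    intro l hl
    have h1 : X 0 (φ l * l * e) = K l * X 0 e * (K l)⁻¹ := by
      rw [hc.conj l hl, mul_zero, mul_inv_cancel_right]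
    have h2 : (K l)⁻¹ * X 0 b = X 0 (φ l⁻¹ * l⁻¹ * b) * (K l)⁻¹ := by
      rw [hc.K_inv hl, hc.conj _ (inv_ne_zero hl), mul_zero]
    have h3 : X 0 b * K l = K l * X 0 (φ l⁻¹ * l⁻¹ * b) := by
      rw [hc.conj l hl, mul_zero]
      congr 2
      have := (map_ne_zero φ).2 hl
      rw [map_inv₀]; field_simp
    have h4 : (K l)⁻¹ * t = t * K l := by rw [hc.t_K hS hl, hc.K_inv hl]
    calc t * X 0 (φ l * l * e) * t = (t * K l) * X 0 e * ((K l)⁻¹ * t) := by rw [h1]; group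
      _ = ((K l)⁻¹ * t) * X 0 e * (t * K l) := by rw [h4]
      _ = (K l)⁻¹ * (t * X 0 e * t) * K l := by group
      _ = ((K l)⁻¹ * X 0 b) * t * (X 0 b * K l) := by rw [hb, hinv]; group
      _ = X 0 (φ l⁻¹ * l⁻¹ * b) * ((K l)⁻¹ * (t * K l)) * X 0 (φ l⁻¹ * l⁻¹ * b) := by
          rw [h2, h3]; group
      _ = _ := by
          rw [hc.t_K hS hl, hc.K_inv hl, ← mul_assoc (K l⁻¹),
            ← hc.K_mul _ _ (inv_ne_zero hl) (inv_ne_zero hl)]
          group
  -- `b = e`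
  obtain ⟨l, hl, hle⟩ : ∃ l, l ≠ 0 ∧ φ l * l * e = b := by
    obtain ⟨l, hl⟩ := (Finite.injective_iff_surjective.1 (hc.nm_injective hS)) (b / e)
    have hl' : φ l * l = b / e := hl
    refine ⟨l, fun h => ?_, by rw [hl', div_mul_cancel₀ _ he]⟩
    rw [h, mul_zero, eq_comm, div_eq_zero_iff] at hl'
    exact hl'.elim hb0 he
  have htrt : t * X 0 b * t = X 0 b * K 1 * t * X 0 e := by
    rw [hc.K_one, mul_one]
    calc t * X 0 b * t = X 0 b * ((X 0 b)⁻¹ * t * X 0 b) * t := by group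
      _ = X 0 b * t * X 0 e * (t * t) := by rw [← hb]; group
      _ = _ := by rw [hS.mul_self, mul_one]
  have hbe : b = e := by
    have h1 := hconj l hl
    rw [hle, htrt] at h1
    obtain ⟨-, hy, hll, -, hv⟩ := hc.canon hS one_ne_zero
      (mul_ne_zero (inv_ne_zero hl) (inv_ne_zero hl)) h1
    exact hy.trans hv.symm
  rw [hbe] at hconj
  -- the subgroup `M`
  let Frm : G → Prop := fun g =>
    (∃ y l, l ≠ 0 ∧ g = X 0 y * K l) ∨ ∃ y l z, l ≠ 0 ∧ g = X 0 y * K l * t * X 0 z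
  let S : Set G := (Set.range fun y => X 0 y) ∪ K '' {l | l ≠ 0} ∪ {t}
  have hmulZ : ∀ y z, X 0 y * X 0 z = X 0 (y + z) := fun y z => by
    rw [hc.X_mul, map_zero, zero_mul, add_zero, add_zero]
  have fX : ∀ g, Frm g → ∀ w, Frm (g * X 0 w) := by
    rintro g (⟨y, m, hm, rfl⟩ | ⟨y, m, z, hm, rfl⟩) w
    · exact Or.inl ⟨y + φ m * m * w, m, hm, by rw [mul_assoc, hc.conj m hm, mul_zero, ← mul_assoc, hmulZ]⟩
    · exact Or.inr ⟨y, m, z + w, hm, by rw [mul_assoc, hmulZ]⟩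
  have fK : ∀ g, Frm g → ∀ j, j ≠ 0 → Frm (g * K j) := by
    rintro g (⟨y, m, hm, rfl⟩ | ⟨y, m, z, hm, rfl⟩) j hj
    · exact Or.inl ⟨y, m * j, mul_ne_zero hm hj, by rw [mul_assoc, ← hc.K_mul m j hm hj]⟩
    · refine Or.inr ⟨y, m * j⁻¹, φ j⁻¹ * j⁻¹ * z, mul_ne_zero hm (inv_ne_zero hj), ?_⟩
      have h3 : X 0 z * K j = K j * X 0 (φ j⁻¹ * j⁻¹ * z) := by
        rw [hc.conj j hj, mul_zero]
        congr 2
        have := (map_ne_zero φ).2 hj
        rw [map_inv₀]; field_simp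
      rw [mul_assoc _ (X 0 z), h3, ← mul_assoc, mul_assoc _ t (K j), hc.t_K hS hj, ← mul_assoc,
        mul_assoc (X 0 y), ← hc.K_mul m _ hm (inv_ne_zero hj)]
  have ft : ∀ g, Frm g → Frm (g * t) := by
    rintro g (⟨y, m, hm, rfl⟩ | ⟨y, m, z, hm, rfl⟩)
    · exact Or.inr ⟨y, m, 0, hm, by rw [hc.X_zero, mul_one]⟩
    rcases eq_or_ne z 0 with rfl | hz
    · refine Or.inl ⟨y, m, hm, ?_⟩
      rw [hc.X_zero, mul_one, mul_assoc _ t t, hS.mul_self, mul_one]
    obtain ⟨j, hj⟩ := (Finite.injective_iff_surjective.1 (hc.nm_injective hS)) (z / e)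
    have hj' : φ j * j = z / e := hj
    have hj0 : j ≠ 0 := fun h => by
      rw [h, mul_zero, eq_comm, div_eq_zero_iff] at hj'
      exact hj'.elim hz he
    have h1 := hconj j hj0
    rw [hj', div_mul_cancel₀ _ he] at h1
    refine Or.inr ⟨y + φ m * m * (φ j⁻¹ * j⁻¹ * e), m * (j⁻¹ * j⁻¹), φ j⁻¹ * j⁻¹ * e,
      mul_ne_zero hm (mul_ne_zero (inv_ne_zero hj0) (inv_ne_zero hj0)), ?_⟩
    calc X 0 y * K m * t * X 0 z * t = X 0 y * K m * (t * X 0 z * t) := by group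
      _ = X 0 y * (K m * X 0 (φ j⁻¹ * j⁻¹ * e)) * (K (j⁻¹ * j⁻¹) * t * X 0 (φ j⁻¹ * j⁻¹ * e)) := by
          rw [h1]; group
      _ = _ := by
          rw [hc.conj m hm, mul_zero,
            hc.K_mul m _ hm (mul_ne_zero (inv_ne_zero hj0) (inv_ne_zero hj0)), ← hmulZ]
          group
  have hfrm : ∀ g ∈ Subgroup.closure S, Frm g := by
    intro g hg
    induction hg using Subgroup.closure_induction_right with
    | one => exact Or.inl ⟨0, 1, one_ne_zero, by rw [hc.X_zero, hc.K_one, one_mul]⟩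
    | mul_right x _ y hy hx =>
      rcases hy with (⟨p, rfl⟩ | ⟨m, hm, rfl⟩) | rfl
      · exact fX x hx p
      · exact fK x hx m hm
      · exact ft x hx
    | mul_inv_cancel x _ y hy hx =>
      rcases hy with (⟨p, rfl⟩ | ⟨m, hm, rfl⟩) | rfl
      · show Frm (x * (X 0 p)⁻¹)
        rw [hinv]; exact fX x hx p
      · rw [hc.K_inv hm]; exact fK x hx _ (inv_ne_zero hm)
      · rw [inv_eq_of_mul_eq_one_right hS.mul_self]; exact ft x hx
  set M := Subgroup.closure S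
  have mX : ∀ y, X 0 y ∈ M := fun y => Subgroup.subset_closure (Or.inl (Or.inl ⟨y, rfl⟩))
  have mK : ∀ m : Fˣ, K (m : F) ∈ M := fun m =>
    Subgroup.subset_closure (Or.inl (Or.inr ⟨m, m.ne_zero, rfl⟩))
  have mt : t ∈ M := Subgroup.subset_closure (Or.inr rfl)
  let f : (F × Fˣ) ⊕ (F × Fˣ × F) → M := Sum.elim (fun p => ⟨_, mul_mem (mX p.1) (mK p.2)⟩)
    (fun p => ⟨_, mul_mem (mul_mem (mul_mem (mX p.1) (mK p.2.1)) mt) (mX p.2.2)⟩)
  have hf : Function.Bijective f := by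
    constructor
    · rintro (⟨y, m⟩ | ⟨y, m, z⟩) (⟨y', m'⟩ | ⟨y', m', z'⟩) h <;>
        have h' := congrArg Subtype.val h <;> simp only [f, Sum.elim_inl, Sum.elim_inr] at h'
      · obtain ⟨e1, e2⟩ := eq_of_decomp hS (hc.X_mem 0 y) (hc.X_mem 0 y') (hc.K_mem _ m.ne_zero).1
          (hc.K_mem _ m'.ne_zero).1 h'
        obtain rfl := (hc.X_inj _ _ _ _ e1).2
        obtain rfl := Units.ext (hc.K_inj _ _ m.ne_zero m'.ne_zero e2)
        rfl
      · refine absurd ?_ hS.not_mem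
        have e : t = (X 0 y' * K (m' : F))⁻¹ * (X 0 y * K (m : F)) * (X 0 z')⁻¹ := by rw [h']; group
        rw [e]
        exact mul_mem (mul_mem (inv_mem (mul_mem (hS.le (hc.X_mem _ _)) (hc.K_mem _ m'.ne_zero).1.1))
          (mul_mem (hS.le (hc.X_mem _ _)) (hc.K_mem _ m.ne_zero).1.1)) (inv_mem (hS.le (hc.X_mem _ _)))
      · refine absurd ?_ hS.not_mem
        have e : t = (X 0 y * K (m : F))⁻¹ * (X 0 y' * K (m' : F)) * (X 0 z)⁻¹ := by rw [← h']; group
        rw [e]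
        exact mul_mem (mul_mem (inv_mem (mul_mem (hS.le (hc.X_mem _ _)) (hc.K_mem _ m.ne_zero).1.1))
          (mul_mem (hS.le (hc.X_mem _ _)) (hc.K_mem _ m'.ne_zero).1.1)) (inv_mem (hS.le (hc.X_mem _ _)))
      · obtain ⟨-, rfl, e2, -, rfl⟩ := hc.canon hS m.ne_zero m'.ne_zero h'
        obtain rfl := Units.ext e2
        rfl
    · rintro ⟨g, hg⟩
      rcases hfrm g hg with ⟨y, m, hm, rfl⟩ | ⟨y, m, z, hm, rfl⟩
      · exact ⟨Sum.inl (y, Units.mk0 m hm), rfl⟩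
      · exact ⟨Sum.inr (y, Units.mk0 m hm, z), rfl⟩
  set q := Nat.card F with hq
  have hM : Nat.card M = (q * (q - 1)) * (q + 1) := by
    rw [← Nat.card_eq_of_bijective f hf, Nat.card_sum, Nat.card_prod, Nat.card_prod, Nat.card_prod,
      Nat.card_units, ← hq]
    ring
  -- an element of prime order dividing `q + 1`
  obtain ⟨n, -, hn⟩ := FiniteField.card F 2
  have hqn : q = 2 ^ (n : ℕ) := by rw [hq, Nat.card_eq_fintype_card, hn]
  have hqeven : 2 ∣ q := hqn ▸ dvd_pow_self 2 n.pos.ne'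
  have hqpos : 0 < q := Nat.card_pos
  obtain ⟨p, hp, hpq⟩ := Nat.exists_prime_and_dvd (show q + 1 ≠ 1 by omega)
  haveI := Fact.mk hp
  have hp2 : p ≠ 2 := by rintro rfl; omega
  have hpq1 : ¬ p ∣ q - 1 := fun h => hp2 <| (Nat.prime_dvd_prime_iff_eq hp Nat.prime_two).1 (by
    have := Nat.dvd_sub hpq h
    rwa [show q + 1 - (q - 1) = 2 by omega] at this)
  obtain ⟨y₀, hy₀⟩ := exists_prime_orderOf_dvd_card' p (G := M) (hM ▸ hpq.mul_left _)
  have hy : orderOf (y₀ : G) = p := by rw [Subgroup.orderOf_coe, hy₀]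
  have hpow1 : ∀ m : F, m ≠ 0 → m ^ (q - 1) = 1 := fun m hm => by
    rw [hq, Nat.card_eq_fintype_card]; exact FiniteField.pow_card_sub_one_eq_one m hm
  have hcop : Nat.Coprime p (q - 1) := (Nat.Prime.coprime_iff_not_dvd hp).2 hpq1
  have hKp : ∀ m : F, m ≠ 0 → K m ^ p = 1 → m = 1 := fun m hm h => by
    have h1 : K (m ^ p) = K 1 := by rw [hc.K_pow hm, h, hc.K_one]
    have h3 := pow_gcd_eq_one.2 ⟨hc.K_inj _ _ (pow_ne_zero p hm) one_ne_zero h1, hpow1 m hm⟩
    rwa [hcop, pow_one] at h3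
  rcases hfrm _ y₀.2 with ⟨u, m, hm, hy0⟩ | ⟨u, m, z, hm, hy0⟩
  · have hpw : ∀ j : ℕ, ∃ u', (X 0 u * K m) ^ j = X 0 u' * K (m ^ j) := by
      intro j
      induction j with
      | zero => exact ⟨0, by rw [pow_zero, pow_zero, hc.X_zero, hc.K_one, one_mul]⟩
      | succ j ih =>
        obtain ⟨u', hu'⟩ := ih
        refine ⟨u' + φ (m ^ j) * m ^ j * u, ?_⟩
        rw [pow_succ, hu', pow_succ, hc.K_mul _ _ (pow_ne_zero j hm) hm, mul_assoc,
          ← mul_assoc (K (m ^ j)), hc.conj _ (pow_ne_zero j hm), mul_zero, ← mul_assoc, ← mul_assoc,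
          hmulZ, mul_assoc]
    obtain ⟨u', hu'⟩ := hpw p
    rw [← hy0, ← hy, pow_orderOf_eq_one, hy] at hu'
    obtain ⟨-, -, hmp⟩ := hc.eq_one hS (pow_ne_zero p hm) hu'.symm
    obtain rfl := hKp m hm (by rw [← hc.K_pow hm, hmp, hc.K_one])
    rw [hc.K_one, mul_one] at hy0
    have h1 : (y₀ : G) ^ 2 = 1 := by rw [hy0, sq, hc.center_sq]
    have := orderOf_dvd_of_pow_eq_one h1
    rw [hy] at this
    exact hp2 ((Nat.prime_dvd_prime_iff_eq hp Nat.prime_two).1 this)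
  · set i := K m * t with hi
    set j := X 0 (z + u) with hj
    clear_value i j
    have hyc : i * j = X 0 u * (y₀ : G) * (X 0 u)⁻¹ := by
      rw [hi, hj, hy0, hinv, ← hmulZ]
      calc K m * t * (X 0 z * X 0 u) = (X 0 u * X 0 u) * (K m * t * (X 0 z * X 0 u)) := by
            rw [hc.center_sq, one_mul]
        _ = _ := by group
    have hy1 : orderOf (i * j) = p := by rw [hyc, orderOf_conj, hy]
    have hii : i * i = 1 := by
      rw [hi, mul_assoc, ← mul_assoc t, hc.t_K hS hm, mul_assoc (K m⁻¹), hS.mul_self, mul_one,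
        ← hc.K_mul _ _ hm (inv_ne_zero hm), mul_inv_cancel₀ hm, hc.K_one]
    have hia : i • a = t • a := by rw [hi, mul_smul]; exact (hc.K_mem m hm).1.2
    have hzu : z + u ≠ 0 := fun e0 => by
      rw [hj, e0, hc.X_zero, mul_one] at hy1
      have := orderOf_dvd_of_pow_eq_one (show i ^ 2 = 1 by rw [sq, hii])
      rw [hy1] at this
      exact hp2 ((Nat.prime_dvd_prime_iff_eq hp Nat.prime_two).1 this)
    haveI := finite_points hS
    set y := i * j with hydef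
    have hP : IsPGroup p (Subgroup.zpowers y) :=
      IsPGroup.of_card (n := 1) (by rw [Nat.card_zpowers, hy1, pow_one])
    have hmod := hP.card_modEq_card_fixedPoints Ω
    obtain ⟨c, hcfix⟩ : ∃ c : Ω, y • c = c := by
      by_contra! hno
      have hempty : Nat.card (MulAction.fixedPoints (Subgroup.zpowers y) Ω) = 0 := by
        rw [Nat.card_eq_zero]
        exact Or.inl ⟨fun c => hno c.1 (c.2 ⟨y, Subgroup.mem_zpowers y⟩)⟩
      rw [hempty, Nat.modEq_zero_iff_dvd, hc.card_points' hS, ← hq] at hmod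
      have h3 : p ∣ 2 * q := by
        have h4 : (q + 1) * (q + 1) = q ^ 2 + 1 + 2 * q := by ring
        have h5 : p ∣ q ^ 2 + 1 + 2 * q := h4 ▸ hpq.mul_right _
        exact (Nat.dvd_add_right hmod).1 h5
      rcases (Nat.Prime.dvd_mul hp).1 h3 with h4 | h4
      · exact hp2 ((Nat.prime_dvd_prime_iff_eq hp Nat.prime_two).1 h4)
      · have := Nat.dvd_sub hpq h4
        rw [show q + 1 - q = 1 by omega] at this
        exact hp.ne_one (Nat.dvd_one.1 this)
    have hj2 : j * j = 1 := by rw [hj]; exact hc.center_sq _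
    have hjQ : j ∈ Q := by rw [hj]; exact hc.X_mem _ _
    have hj1 : j ≠ 1 := by rw [hj]; exact (hc.involution_of hS hzu).2.1
    have hyi : i * y * i = y⁻¹ := by
      rw [hydef, mul_inv_rev, inv_eq_of_mul_eq_one_right hii, inv_eq_of_mul_eq_one_right hj2,
        ← mul_assoc, hii, one_mul]
    have hic : i • c ≠ c := fun e0 => by
      have h1 : j • c = c := by
        have : (i * y) • c = c := by rw [mul_smul, hcfix, e0]
        rwa [hydef, ← mul_assoc, hii, one_mul] at this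
      rw [eq_a_of_fixed hS hjQ hj1 h1, hia] at e0
      exact b_ne hS e0
    obtain ⟨g, hgc, hgi⟩ := exists_move hS (x := c) (y := i • c) (x' := a) (y' := t • a) hic.symm
      (b_ne hS).symm
    set w := g * i * g⁻¹ with hw
    set y₁ := g * y * g⁻¹ with hy₁
    clear_value w y₁
    have hw2 : w * w = 1 := by
      rw [hw, show g * i * g⁻¹ * (g * i * g⁻¹) = g * (i * i) * g⁻¹ by group, hii]; group
    have hga : g⁻¹ • a = c := by rw [← hgc, inv_smul_smul]
    have hgb : g⁻¹ • (t • a) = i • c := by rw [← hgi, inv_smul_smul]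
    have hwa : w • a = t • a := by rw [hw, mul_smul, mul_smul, hga, hgi]
    have hyb : y • i • c = i • c := by
      have h1 : (y * i) • c = i • c := by
        rw [show y * i = i * y⁻¹ by rw [← hyi, ← mul_assoc, ← mul_assoc, hii, one_mul], mul_smul,
          inv_smul_eq_iff.2 hcfix.symm]
      rwa [mul_smul] at h1
    have hy₁D : y₁ ∈ D := by
      refine ⟨?_, ?_⟩
      · show y₁ • a = a
        rw [hy₁]
        rw [mul_smul, mul_smul, hga, hcfix, hgc]
      · show y₁ • (t • a) = t • a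
        rw [hy₁]
        rw [mul_smul, mul_smul, hgb, hyb, hgi]
    have hwy : w * y₁ * w = y₁⁻¹ := by
      rw [hw, hy₁, show g * i * g⁻¹ * (g * y * g⁻¹) * (g * i * g⁻¹) = g * (i * y * i) * g⁻¹ by group,
        hyi]
      group
    obtain ⟨l₁, hl₁, hk₁⟩ := hc.K_surj _ (mul_t_mem_K hS hw2 hwa)
    obtain ⟨r₂, hr₂⟩ := hqeven
    set l₂ := l₁ ^ r₂ with hl₂
    have hl₂0 : l₂ ≠ 0 := pow_ne_zero _ hl₁
    have hsq : K l₂ * K l₂ = t * w := by
      rw [← hc.K_mul _ _ hl₂0 hl₂0, ← hk₁, hl₂, ← pow_add, show r₂ + r₂ = q - 1 + 1 by omega, pow_succ,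
        hpow1 _ hl₁, one_mul]
    have hy₂D : K l₂ * y₁ * (K l₂)⁻¹ ∈ D :=
      mul_mem (mul_mem (hc.K_mem _ hl₂0).1 hy₁D) (inv_mem (hc.K_mem _ hl₂0).1)
    have hy₂t : t * (K l₂ * y₁ * (K l₂)⁻¹) * t⁻¹ = (K l₂ * y₁ * (K l₂)⁻¹)⁻¹ := by
      have hwt : w = t * (K l₂ * K l₂) := by rw [hsq, ht]
      have hk : t * K l₂ = (K l₂)⁻¹ * t := by rw [hc.t_K hS hl₂0, hc.K_inv hl₂0]
      have hk' : (K l₂)⁻¹ * t = t * K l₂ := hk.symm
      have e1 : t * (K l₂ * y₁ * (K l₂)⁻¹) * t⁻¹ = (K l₂)⁻¹ * (t * y₁ * t) * K l₂ := by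
        rw [inv_eq_of_mul_eq_one_right hS.mul_self]
        calc t * (K l₂ * y₁ * (K l₂)⁻¹) * t = (t * K l₂) * y₁ * ((K l₂)⁻¹ * t) := by group
          _ = ((K l₂)⁻¹ * t) * y₁ * (t * K l₂) := by rw [hk]
          _ = _ := by group
      have e2 : t * y₁ * t = (K l₂ * K l₂) * y₁⁻¹ * (K l₂ * K l₂)⁻¹ := by
        have h5 : t = (K l₂ * K l₂) * w := by
          calc t = t * (w * w) := by rw [hw2, mul_one]
            _ = _ := by rw [hsq, mul_assoc]
        have h6 : t = w * (K l₂ * K l₂)⁻¹ := by rw [hwt]; group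
        calc t * y₁ * t = ((K l₂ * K l₂) * w) * y₁ * (w * (K l₂ * K l₂)⁻¹) := by rw [← h5, ← h6]
          _ = (K l₂ * K l₂) * (w * y₁ * w) * (K l₂ * K l₂)⁻¹ := by group
          _ = _ := by rw [hwy]
      rw [e1, e2]
      group
    obtain ⟨l₃, hl₃, hk₃⟩ := hc.K_surj _ ⟨hy₂D, hy₂t⟩
    have h1 : orderOf (K l₂ * y₁ * (K l₂)⁻¹) = p := by rw [orderOf_conj, hy₁, orderOf_conj, hy1]
    obtain rfl := hKp l₃ hl₃ (by rw [hk₃, ← h1, pow_orderOf_eq_one])
    rw [← hk₃, hc.K_one, orderOf_one] at h1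
    exact hp.ne_one h1.symm

end Coord

end Cfsg.Agent.Involutions.RankOne.Sz
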