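import Cfsg.Agent.Lib.Involutions.RankOne.Sz.Model
import Cfsg.Agent.Lib.Involutions.RankOne.Sz.Setup

/-!
# The Suzuki branch of the split rank-one classification

If `Q` is a Suzuki 2-group of order the square of the order of its centre, then `G` has a normal
subgroup of odd index isomorphic to a Suzuki group.
-/

set_option autoImplicit false
set_option linter.style.haveILetI false
set_option linter.unusedSectionVars false
set_option linter.unusedVariables false

namespace Cfsg.Agent.Involutions.RankOne.Sz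

variable {G Ω : Type*} [Group G] [Finite G] [MulAction G Ω] {a : Ω} {t : G} {Q : Subgroup G}

local notation "H" => MulAction.stabilizer G a
local notation "D" => (MulAction.stabilizer G a ⊓ MulAction.stabilizer G (t • a))

variable {F : Type} [Field F] [Fintype F] [CharP F 2] {φ : F ≃+* F} {X : F → F → G} {K : F → G}

/-- The coordinates give a frame after scaling. -/
theorem Coord.exists_frame (hc : Coord a t Q φ X K) (hS : Cfsg.IsRankOneSetup G Ω a t Q) :
    ∃ (c e : F) (Y : F → F → G), Frame φ c e Y K t ∧ (∀ x y, Y x y ∈ Q) ∧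
      ∀ g ∈ Q, ∃ x y, Y x y = g := by
  obtain ⟨⟨s, r⟩, ⟨hs, hr, heq⟩, -⟩ := exists_pair hS
  simp only at hs hr heq
  obtain ⟨e₀, he₀, rfl⟩ := hc.involution_form hS hs
  obtain ⟨a₀, b₀, rfl⟩ := hc.X_surj r hr
  have ha : a₀ ≠ 0 := fun h0 => hc.pair_noncentral hS (b := b₀) he₀ (by rw [heq, h0])
  have hφa : φ a₀ ≠ 0 := (map_ne_zero φ).2 ha
  have hn : φ a₀ * a₀ ≠ 0 := mul_ne_zero hφa ha
  refine ⟨b₀ / (φ a₀ * a₀), e₀ / (φ a₀ * a₀), fun x y => X (a₀ * x) (φ a₀ * a₀ * y), ?_,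
    fun x y => hc.X_mem _ _, fun g hg => ?_⟩
  · exact
    { e_ne := div_ne_zero he₀ hn
      nm_inj := hc.nm_injective hS
      X_mul := fun x y x' y' => by
        rw [hc.X_mul, map_mul]
        congr 1 <;> ring
      K_mul := hc.K_mul
      conj := fun l hl x y => by
        rw [hc.conj l hl]
        congr 2 <;> ring
      t_t := hS.mul_self
      t_K := fun l hl => hc.t_K hS hl
      base := by
        rw [mul_zero, mul_one, mul_div_cancel₀ _ hn, mul_div_cancel₀ _ hn]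
        exact heq
      uniq := fun x y l u v x' y' l' u' v' hl hl' h1 => by
        obtain ⟨e1, e2, e3, e4, e5⟩ := hc.canon hS hl hl' h1
        exact ⟨mul_left_cancel₀ ha e1, mul_left_cancel₀ hn e2, e3, mul_left_cancel₀ ha e4,
          mul_left_cancel₀ hn e5⟩
      ne_one := fun x y l u v hl => hc.ne_one hS hl
      eq_one := fun x y l hl h1 => by
        obtain ⟨e1, e2, e3⟩ := hc.eq_one hS hl h1
        exact ⟨(mul_eq_zero.1 e1).resolve_left ha, (mul_eq_zero.1 e2).resolve_left hn, e3⟩ }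
  · obtain ⟨x, y, rfl⟩ := hc.X_surj g hg
    refine ⟨x / a₀, y / (φ a₀ * a₀), ?_⟩
    show X (a₀ * (x / a₀)) (φ a₀ * a₀ * (y / (φ a₀ * a₀))) = X x y
    rw [mul_div_cancel₀ _ ha, mul_div_cancel₀ _ hn]

omit [Fintype F] [CharP F 2] in
/-- A subgroup containing `Q`, the inverted torus and `t`, generated by them, is normal of odd index. -/
theorem Coord.normal_gen (hc : Coord a t Q φ X K) (hS : Cfsg.IsRankOneSetup G Ω a t Q)
    {C : Subgroup G} (hC : (C : Set G) = Cfsg.invertedBy D t)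
    (hCn : ∀ d ∈ D, ∀ c ∈ C, d * c * d⁻¹ ∈ C) {Y : F → F → G} (hYQ : ∀ x y, Y x y ∈ Q)
    (hY : ∀ g ∈ Q, ∃ x y, Y x y = g) : (gen Y K t).Normal ∧ Odd (gen Y K t).index := by
  set L := gen Y K t
  have hCm : ∀ x, x ∈ C ↔ x ∈ Cfsg.invertedBy D t := fun x => Set.ext_iff.1 hC x
  have hQL : Q ≤ L := fun g hg => by
    obtain ⟨x, y, rfl⟩ := hY g hg
    exact X_mem_gen x y
  have hCL : ∀ k ∈ Cfsg.invertedBy D t, k ∈ L := fun k hk => by
    obtain ⟨l, hl, rfl⟩ := hc.K_surj k hk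
    exact K_mem_gen hl
  have htL : t ∈ L := t_mem_gen
  have hDL : ∀ d ∈ D, ∀ g ∈ L, d * g * d⁻¹ ∈ L := by
    intro d hd g hg
    induction hg using Subgroup.closure_induction with
    | one => simp
    | mul x y _ _ hx hy =>
      rw [show d * (x * y) * d⁻¹ = (d * x * d⁻¹) * (d * y * d⁻¹) by group]
      exact mul_mem hx hy
    | inv x _ hx =>
      rw [show d * x⁻¹ * d⁻¹ = (d * x * d⁻¹)⁻¹ by group]
      exact inv_mem hx
    | mem x hx =>
      rcases hx with (⟨p, rfl⟩ | ⟨l, hl, rfl⟩) | hxt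
      · exact hQL (hS.conj_mem d hd.1 _ (hYQ p.1 p.2))
      · exact hCL _ ((hCm _).1 (hCn d hd _ ((hCm _).2 (hc.K_mem l hl))))
      · rw [Set.mem_singleton_iff.1 hxt]
        have ht2 : t⁻¹ = t := t_inv hS
        have htt : ∀ g : G, t * (t * g) = g := fun g => by rw [← mul_assoc, hS.mul_self, one_mul]
        have h1 : t * d * t * d⁻¹ ∈ Cfsg.invertedBy D t := by
          refine ⟨mul_mem ?_ (inv_mem hd), ?_⟩
          · have h3 := t_conj_mem_D hS hd
            rwa [ht2] at h3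
          · simp only [mul_inv_rev, inv_inv, ht2, mul_assoc, htt]
        rw [show d * t * d⁻¹ = t⁻¹ * (t * d * t * d⁻¹) by group]
        exact mul_mem (inv_mem htL) (hCL _ h1)
  have hdec : ∀ g : G, ∃ u ∈ L, ∃ d ∈ D, g = u * d := by
    intro g
    by_cases hg : g ∈ H
    · obtain ⟨q, hq, d, hd, e⟩ := exists_decomp hS hg
      exact ⟨q, hQL hq, d, hd, e⟩
    · obtain ⟨q, hq, hqb⟩ := exists_q hS (c := g • a) hg
      have hm : (q * t)⁻¹ * g ∈ H := by
        show ((q * t)⁻¹ * g) • a = a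
        rw [mul_smul, inv_smul_eq_iff, mul_smul, hqb]
      obtain ⟨q', hq', d, hd, e⟩ := exists_decomp hS hm
      refine ⟨q * t * q', mul_mem (mul_mem (hQL hq) htL) (hQL hq'), d, hd, ?_⟩
      rw [mul_assoc (q * t), ← e, mul_inv_cancel_left]
  have hn : L.Normal := ⟨fun x hx g => by
    obtain ⟨u, hu, d, hd, rfl⟩ := hdec g
    rw [show u * d * x * (u * d)⁻¹ = u * (d * x * d⁻¹) * u⁻¹ by group]
    exact mul_mem (mul_mem hu (hDL d hd x hx)) (inv_mem hu)⟩
  refine ⟨hn, ?_⟩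
  have htop : D ⊔ L = ⊤ := by
    rw [eq_top_iff]
    intro g _
    obtain ⟨u, hu, d, hd, rfl⟩ := hdec g
    exact mul_mem (Subgroup.mem_sup_right hu) (Subgroup.mem_sup_left hd)
  have h1 : L.relIndex D = L.index := by
    rw [← Subgroup.relIndex_sup_right, htop, Subgroup.relIndex_top_right]
  rw [← h1]
  exact hS.odd_card.of_dvd_nat (Subgroup.relIndex_dvd_card L D)

omit F φ X K in
/-- The Suzuki branch of S1136. -/
theorem exists_suzuki [FaithfulSMul G Ω] (hS : Cfsg.IsRankOneSetup G Ω a t Q)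
    (h2 : ∃ x y : G, x ≠ 1 ∧ y ≠ 1 ∧ x ≠ y ∧ x * x = 1 ∧ y * y = 1 ∧ x * y = y * x)
    (hQ : IsPGroup 2 Q) (hP : Cfsg.IsSuzukiTwoGroup Q)
    (hcard : Nat.card Q = Nat.card (Subgroup.center Q) ^ 2) :
    ∃ L : Subgroup G, L.Normal ∧ Odd L.index ∧ Cfsg.Lie.IsoSuzuki L := by
  obtain ⟨F, iF, iT, iC, φ, X, K, hφ, hodd, hc⟩ := exists_coord hS h2 hQ hP hcard
  obtain ⟨C, hC, -, hCn⟩ := inverted_cyclic_normal hS h2 (Cfsg.Agent.S0205.result hS.odd_card)
  obtain ⟨c, e, Y, hfr, hYQ, hY⟩ := hc.exists_frame hS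
  obtain ⟨hn, hi⟩ := hc.normal_gen hS hC hCn hYQ hY
  exact ⟨gen Y K t, hn, hi, isoSuzuki_gen hfr hφ hodd⟩

end Cfsg.Agent.Involutions.RankOne.Sz
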