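import Cfsg.Agent.Lib.Involutions.RankOne.Sz.Frame

/-!
# The group of canonical forms of a frame, and comparison of two frames
-/

set_option autoImplicit false
set_option linter.unusedSectionVars false

namespace Cfsg.Agent.Involutions.RankOne.Sz

variable {F : Type*} [Field F]
variable {G : Type*} [Group G] {φ : F ≃+* F} {c e : F} {X : F → F → G} {K : F → G} {t : G}

/-- An element in canonical form. -/
def IsForm (X : F → F → G) (K : F → G) (t : G) (g : G) : Prop :=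
  (∃ a b l, l ≠ 0 ∧ g = X a b * K l) ∨ ∃ a b l x y, l ≠ 0 ∧ g = X a b * K l * t * X x y

/-- The subgroup generated by a frame. -/
def gen (X : F → F → G) (K : F → G) (t : G) : Subgroup G :=
  Subgroup.closure ((Set.range fun p : F × F => X p.1 p.2) ∪ K '' {l | l ≠ 0} ∪ {t})

theorem X_mem_gen (a b : F) : X a b ∈ gen X K t :=
  Subgroup.subset_closure (Or.inl (Or.inl ⟨(a, b), rfl⟩))

theorem K_mem_gen {l : F} (hl : l ≠ 0) : K l ∈ gen X K t :=
  Subgroup.subset_closure (Or.inl (Or.inr ⟨l, hl, rfl⟩))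

theorem t_mem_gen : t ∈ gen X K t := Subgroup.subset_closure (Or.inr rfl)

variable [CharP F 2] [Finite F]

namespace Frame

theorem form_mul_X (h : Frame φ c e X K t) {g : G} (hg : IsForm X K t g) (p q : F) :
    IsForm X K t (g * X p q) := by
  rcases hg with ⟨a, b, l, hl, rfl⟩ | ⟨a, b, l, x, y, hl, rfl⟩
  · refine Or.inl ⟨a + l * p, b + φ l * l * q + φ a * (l * p), l, hl, ?_⟩
    rw [mul_assoc, h.conj l hl, ← mul_assoc, h.X_mul]
  · exact Or.inr ⟨a, b, l, x + p, y + q + φ x * p, hl, by rw [mul_assoc, h.X_mul]⟩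

theorem form_mul_K (h : Frame φ c e X K t) {g : G} (hg : IsForm X K t g) {m : F} (hm : m ≠ 0) :
    IsForm X K t (g * K m) := by
  rcases hg with ⟨a, b, l, hl, rfl⟩ | ⟨a, b, l, x, y, hl, rfl⟩
  · exact Or.inl ⟨a, b, l * m, mul_ne_zero hl hm, by rw [mul_assoc, ← h.K_mul l m hl hm]⟩
  · refine Or.inr ⟨a, b, l * m⁻¹, m⁻¹ * x, φ m⁻¹ * m⁻¹ * y, mul_ne_zero hl (inv_ne_zero hm), ?_⟩
    rw [mul_assoc _ (X x y), h.conj' hm, ← mul_assoc, mul_assoc _ t (K m), h.t_K m hm, ← mul_assoc,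
      mul_assoc (X a b), ← h.K_mul l _ hl (inv_ne_zero hm)]

theorem form_mul_t (h : Frame φ c e X K t) {g : G} (hg : IsForm X K t g) :
    IsForm X K t (g * t) := by
  rcases hg with ⟨a, b, l, hl, rfl⟩ | ⟨a, b, l, x, y, hl, rfl⟩
  · exact Or.inr ⟨a, b, l, 0, 0, hl, by rw [h.X_zero, mul_one]⟩
  by_cases hxy : x ≠ 0 ∨ y ≠ 0
  · obtain ⟨f₁, f₂, k, g₁, g₂, hk, e1⟩ := h.exists_form hxy
    refine Or.inr ⟨a + l * f₁, b + φ l * l * f₂ + φ a * (l * f₁), l * k, g₁, g₂, mul_ne_zero hl hk, ?_⟩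
    calc X a b * K l * t * X x y * t = X a b * K l * (t * X x y * t) := by group
      _ = X a b * (K l * X f₁ f₂) * (K k * t * X g₁ g₂) := by rw [e1]; group
      _ = _ := by rw [h.conj l hl, h.K_mul l k hl hk, ← h.X_mul]; group
  · push Not at hxy
    rw [hxy.1, hxy.2, h.X_zero, mul_one, mul_assoc _ t t, h.t_t, mul_one]
    exact Or.inl ⟨a, b, l, hl, rfl⟩

theorem isForm_of_mem (h : Frame φ c e X K t) {g : G} (hg : g ∈ gen X K t) : IsForm X K t g := by
  induction hg using Subgroup.closure_induction_right with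
  | one => exact Or.inl ⟨0, 0, 1, one_ne_zero, by rw [h.X_zero, h.K_one, one_mul]⟩
  | mul_right x _ y hy hx =>
    rcases hy with (⟨p, rfl⟩ | ⟨l, hl, rfl⟩) | rfl
    · exact h.form_mul_X hx _ _
    · exact h.form_mul_K hx hl
    · exact h.form_mul_t hx
  | mul_inv_cancel x _ y hy hx =>
    rcases hy with (⟨p, rfl⟩ | ⟨l, hl, rfl⟩) | rfl
    · show IsForm X K t (x * (X p.1 p.2)⁻¹)
      rw [h.X_inv]
      exact h.form_mul_X hx _ _
    · rw [h.K_inv hl]
      exact h.form_mul_K hx (inv_ne_zero hl)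
    · rw [h.t_inv]
      exact h.form_mul_t hx

theorem prod (h : Frame φ c e X K t) {H : Type*} [Group H] {X' : F → F → H} {K' : F → H} {t' : H}
    (h' : Frame φ c e X' K' t') :
    Frame φ c e (fun a b => (X a b, X' a b)) (fun l => (K l, K' l)) (t, t') where
  e_ne := h.e_ne
  nm_inj := h.nm_inj
  X_mul a b a' b' := Prod.ext (h.X_mul a b a' b') (h'.X_mul a b a' b')
  K_mul l m hl hm := Prod.ext (h.K_mul l m hl hm) (h'.K_mul l m hl hm)
  conj l hl a b := Prod.ext (h.conj l hl a b) (h'.conj l hl a b)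
  t_t := Prod.ext h.t_t h'.t_t
  t_K l hl := Prod.ext (h.t_K l hl) (h'.t_K l hl)
  base := Prod.ext h.base h'.base
  uniq a b l x y a' b' l' x' y' hl hl' e1 :=
    h.uniq a b l x y a' b' l' x' y' hl hl' (congrArg Prod.fst e1)
  ne_one a b l x y hl e1 := h.ne_one a b l x y hl (congrArg Prod.fst e1)
  eq_one a b l hl e1 := h.eq_one a b l hl (congrArg Prod.fst e1)

/-- A group generated by a frame maps injectively to every group with a frame of the same kind. -/
theorem exists_hom (h : Frame φ c e X K t) {H : Type*} [Group H] {X' : F → F → H} {K' : F → H}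
    {t' : H} (h' : Frame φ c e X' K' t') (hspan : ∀ g : G, IsForm X K t g) :
    ∃ f : G →* H, Function.Injective f ∧ (∀ a b, f (X a b) = X' a b) ∧
      (∀ l, l ≠ 0 → f (K l) = K' l) ∧ f t = t' := by
  have hp := h.prod h'
  set Γ := gen (fun a b => (X a b, X' a b)) (fun l => (K l, K' l)) (t, t')
  let p₁ : Γ →* G := (MonoidHom.fst G H).comp Γ.subtype
  let p₂ : Γ →* H := (MonoidHom.snd G H).comp Γ.subtype
  have hX : ∀ a b, (X a b, X' a b) ∈ Γ := fun a b =>
    X_mem_gen (X := fun a b => (X a b, X' a b)) a b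
  have hK : ∀ l, l ≠ 0 → (K l, K' l) ∈ Γ := fun l hl => K_mem_gen (K := fun l => (K l, K' l)) hl
  have ht : (t, t') ∈ Γ := t_mem_gen
  have hsurj : Function.Surjective p₁ := fun g => by
    rcases hspan g with ⟨a, b, l, hl, rfl⟩ | ⟨a, b, l, x, y, hl, rfl⟩
    · exact ⟨⟨_, mul_mem (hX a b) (hK l hl)⟩, rfl⟩
    · exact ⟨⟨_, mul_mem (mul_mem (mul_mem (hX a b) (hK l hl)) ht) (hX x y)⟩, rfl⟩
  have hinj₁ : Function.Injective p₁ := by
    rw [injective_iff_map_eq_one]
    rintro ⟨g, hg⟩ e1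
    refine Subtype.ext ?_
    change g.1 = 1 at e1
    rcases hp.isForm_of_mem hg with ⟨a, b, l, hl, rfl⟩ | ⟨a, b, l, x, y, hl, rfl⟩
    · obtain ⟨rfl, rfl, rfl⟩ := h.eq_one a b l hl e1
      show (X 0 0, X' 0 0) * (K 1, K' 1) = 1
      rw [h.X_zero, h.K_one, h'.X_zero, h'.K_one, Prod.mk_mul_mk, one_mul, one_mul]
      rfl
    · exact absurd e1 (h.ne_one a b l x y hl)
  have hinj₂ : Function.Injective p₂ := by
    rw [injective_iff_map_eq_one]
    rintro ⟨g, hg⟩ e1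
    refine Subtype.ext ?_
    change g.2 = 1 at e1
    rcases hp.isForm_of_mem hg with ⟨a, b, l, hl, rfl⟩ | ⟨a, b, l, x, y, hl, rfl⟩
    · obtain ⟨rfl, rfl, rfl⟩ := h'.eq_one a b l hl e1
      show (X 0 0, X' 0 0) * (K 1, K' 1) = 1
      rw [h.X_zero, h.K_one, h'.X_zero, h'.K_one, Prod.mk_mul_mk, one_mul, one_mul]
      rfl
    · exact absurd e1 (h'.ne_one a b l x y hl)
  let ψ : Γ ≃* G := MulEquiv.ofBijective p₁ ⟨hinj₁, hsurj⟩
  have hval : ∀ (g : G) (k : H) (hk : (g, k) ∈ Γ), p₂ (ψ.symm g) = k := fun g k hk => by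
    rw [show ψ.symm g = ⟨(g, k), hk⟩ from ψ.symm_apply_eq.2 rfl]
    rfl
  exact ⟨p₂.comp ψ.symm.toMonoidHom, hinj₂.comp ψ.symm.injective, fun a b => hval _ _ (hX a b),
    fun l hl => hval _ _ (hK l hl), hval _ _ ht⟩

end Frame

end Cfsg.Agent.Involutions.RankOne.Sz
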