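import Cfsg.Agent.Lib.Involutions.RankOne.Sz.Bruhat

/-!
# The automorphism and the constants of a frame of Suzuki type

Comparing two evaluations of `t (r z) t` gives an identity which is linear in an auxiliary
parameter `ρ`.  It forces the automorphism to square to the Frobenius map, after replacing it by its
inverse if necessary, and then `r = X 1 1`, `s = X 0 1`.
-/

set_option autoImplicit false
set_option linter.unusedSectionVars false
set_option linter.unusedVariables false

namespace Cfsg.Agent.Involutions.RankOne.Sz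

variable {F : Type*} [Field F]
variable {G : Type*} [Group G] {φ : F ≃+* F} {c e : F} {X : F → F → G} {K : F → G} {t : G}
variable [CharP F 2] [Finite F]

theorem ne_of_one_add {u : F} (hu1 : u ≠ 1) : 1 + u ≠ 0 := fun e1 =>
  hu1 (CharTwo.add_eq_zero.1 e1).symm

theorem one_add_one_add (u : F) : 1 + (1 + u) = u := by
  rw [← add_assoc, CharTwo.add_self_eq_zero, zero_add]

theorem Frame.d_ne_zero (h : Frame φ c e X K t) (u : F) : 1 + u + φ u ≠ 0 := by
  rw [← nm_one_add]
  intro e1
  exact one_ne_zero (add_eq_right.1 (h.nm_inj (CharTwo.add_eq_zero.1 e1)))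

/-- The identity obtained from the two evaluations of `t (r z) t`. -/
theorem Frame.key (h : Frame φ c e X K t) {u ρ : F} (hu : u ≠ 0) (hu1 : u ≠ 1)
    (hρ : φ ρ * ρ = 1 + u + φ u) :
    (ρ + (1 + u)) * φ (1 + u) *
          ((1 + u + φ u) * u + c * (u + φ u + lin φ c u / e) * (1 + u)) +
        u * u * φ u * (1 + u + φ u + ρ) = 0 ∧
      ∃ l, nm φ l * lin φ c u = e ∧ l * (u * u) * (ρ + 1) = (ρ + (1 + u)) * (1 + u) := by
  have hd := h.d_ne_zero u
  have hv := ne_of_one_add hu1
  have hρ0 : ρ ≠ 0 := fun e1 => hd (by rw [← hρ, e1, mul_zero])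
  have hφρ : φ ρ ≠ 0 := (map_ne_zero φ).2 hρ0
  have hφv : φ (1 + u) ≠ 0 := (map_ne_zero φ).2 hv
  have hL : lin φ c u ≠ 0 := fun e1 => hu (h.lin_inj (e1.trans (map_zero _).symm))
  obtain ⟨l, hl, hlL⟩ := h.exists_nm_ne (div_ne_zero h.e_ne hL)
  have hlL' : nm φ l * lin φ c u = e := by rw [hlL, div_mul_cancel₀ _ hL]
  have hnu : nm φ u ≠ 0 := nm_ne_zero hu
  have hnv : nm φ (1 + u) ≠ 0 := nm_ne_zero hv
  have hnl : nm φ l ≠ 0 := nm_ne_zero hl
  set w := u * (1 + u) / ρ with hw
  have hw0 : w ≠ 0 := div_ne_zero (mul_ne_zero hu hv) hρ0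
  have hnw : nm φ w = nm φ u * nm φ (1 + u) / (1 + u + φ u) := by
    rw [hw, nm_div, nm_mul, show nm φ ρ = 1 + u + φ u from hρ]
  have hsum : (nm φ (1 + u))⁻¹ + (nm φ u)⁻¹ = (nm φ w)⁻¹ := by
    rw [hnw]
    field_simp
    linear_combination (norm := (ring_nf <;> reduce_mod_char!)) nm_one_add (φ := φ) u
  have hsum' : (nm φ (l * u))⁻¹ + (nm φ (l * (1 + u)))⁻¹ = (nm φ (l * w))⁻¹ := by
    rw [nm_mul, nm_mul, nm_mul, mul_inv, mul_inv, mul_inv, ← mul_add, add_comm, hsum]
  -- the first evaluation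
  have e1 := h.pair_form hv hu hw0 hsum
  have hx : X (1 + u) (c * nm φ (1 + u)) * X u ((c + 1) * nm φ u) = X 1 c * X 0 (lin φ c u) := by
    have := h.pair_point 1 u
    rw [one_mul, one_mul, nm_one, one_mul] at this
    rw [this, h.X_mul, add_zero, mul_zero, add_zero]
  rw [hx] at e1
  -- the second evaluation
  have e2 := h.pair_form (mul_ne_zero hl hu) (mul_ne_zero hl hv) (mul_ne_zero hl hw0) hsum'
  have hy : X (l * u) (c * nm φ (l * u)) * X (l * (1 + u)) ((c + 1) * nm φ (l * (1 + u))) =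
      X 0 e * X l ((c + 1) * nm φ l) := by
    have := h.pair_point l (1 + u)
    rw [one_add_one_add] at this
    rw [this, h.X_mul, zero_add, map_zero, zero_mul, add_zero]
    congr 1
    rw [lin_apply, map_add, map_one]
    rw [lin_apply] at hlL'
    linear_combination (norm := (ring_nf <;> reduce_mod_char!)) hlL'
  rw [hy] at e2
  set h₂ := l * w / (l * u * (l * (1 + u)))
  have hh₂ : h₂ * h₂ ≠ 0 := by
    have : h₂ ≠ 0 := div_ne_zero (mul_ne_zero hl hw0)
      (mul_ne_zero (mul_ne_zero hl hu) (mul_ne_zero hl hv))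
    exact mul_ne_zero this this
  set A := (l * u)⁻¹ + l * w / (l * u * (l * u)) with hA
  have e3 : ∃ g₁ g₂ k, k ≠ 0 ∧ t * (X 1 c * X 0 (lin φ c u)) * t =
      X (1 + A) (c + (c * (nm φ (l * u)⁻¹ + nm φ (l * w / (l * u * (l * u)))) +
        φ A * (l * w / (l * u * (l * u)))) + A) * K k * t * X g₁ g₂ := by
    have hll : l * l ≠ 0 := mul_ne_zero hl hl
    rw [h.pair_eq, h.pair_eq] at e2
    set bA := c * (nm φ (l * u)⁻¹ + nm φ (l * w / (l * u * (l * u)))) +
      φ A * (l * w / (l * u * (l * u))) with hbA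
    obtain ⟨g, hg⟩ : ∃ g, t * (X 0 e * X l ((c + 1) * nm φ l)) * t =
        X A bA * K (h₂ * h₂) * t * X g.1 g.2 := ⟨(_, _), e2⟩
    obtain ⟨p₁, p₂, h0⟩ : ∃ p₁ p₂,
        X g.1 g.2 * ((K (l * l))⁻¹ * X l (c * nm φ l)) = X p₁ p₂ * (K (l * l))⁻¹ := by
      rw [h.K_inv hll, h.conj _ (inv_ne_zero hll), ← mul_assoc, h.X_mul]
      exact ⟨_, _, rfl⟩
    have e4 : t * (X 1 c * X 0 (lin φ c u)) * t = (X 1 c * X A bA) * K (h₂ * h₂) * t *
        (X g.1 g.2 * ((K (l * l))⁻¹ * X l (c * nm φ l))) :=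
      calc t * (X 1 c * X 0 (lin φ c u)) * t
          = (t * X 1 c * t) * (t * X 0 (lin φ c u) * t) := h.t_mul_t _ _
        _ = X 1 c * (t * (X 0 e * X l ((c + 1) * nm φ l)) * (K (l * l) * t) * X l (c * nm φ l)) := by
            rw [h.t_r_t, h.center_form hl hlL', h.K_one]; group
        _ = X 1 c * (t * (X 0 e * X l ((c + 1) * nm φ l)) * (t * (K (l * l))⁻¹) * X l (c * nm φ l)) := by
            rw [h.K_inv hll, h.t_K _ (inv_ne_zero hll), inv_inv]
        _ = X 1 c * (t * (X 0 e * X l ((c + 1) * nm φ l)) * t) *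
              ((K (l * l))⁻¹ * X l (c * nm φ l)) := by group
        _ = (X 1 c * X A bA) * K (h₂ * h₂) * t *
              (X g.1 g.2 * ((K (l * l))⁻¹ * X l (c * nm φ l))) := by rw [hg]; group
    have e5 : ∀ P Z : G, P * K (h₂ * h₂) * t * (K (l * l)⁻¹ * Z) = P * K (h₂ * h₂ * (l * l)) * t * Z :=
      fun P Z => by
        calc P * K (h₂ * h₂) * t * (K (l * l)⁻¹ * Z)
            = P * (K (h₂ * h₂) * (t * K (l * l)⁻¹)) * Z := by group
          _ = P * (K (h₂ * h₂) * K (l * l)) * t * Z := by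
              rw [h.t_K _ (inv_ne_zero hll), inv_inv]; group
          _ = _ := by rw [← h.K_mul _ _ hh₂ hll]
    rw [h0, h.K_inv hll, h.conj' (inv_ne_zero hll), e5] at e4
    rw [show X 1 c * X A bA = X (1 + A) (c + bA + A) by rw [h.X_mul, map_one, one_mul]] at e4
    exact ⟨_, _, _, mul_ne_zero hh₂ hll, e4⟩
  obtain ⟨g₁, g₂, k, hk, e3⟩ := e3
  rw [e3, h.pair_eq, h.pair_eq] at e1
  have hne : (w / ((1 + u) * u)) ≠ 0 := div_ne_zero hw0 (mul_ne_zero hv hu)
  obtain ⟨ha, hb, -, -, -⟩ := h.uniq _ _ _ _ _ _ _ _ _ _ hk (mul_ne_zero hne hne) e1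
  -- algebra
  clear_value A
  have hA2 : A * (l * (u * u)) = u + w := by
    rw [hA]; field_simp
  have hA1 : A * ((1 + u) * (1 + u)) = u * (1 + u) + w := by
    have := ha
    field_simp at this
    linear_combination (norm := (ring_nf <;> reduce_mod_char!)) this
  have huw : u + w ≠ 0 := fun e4 => by
    have hA0 : A = 0 := (mul_eq_zero.1 (hA2.trans e4)).resolve_right (mul_ne_zero hl (mul_ne_zero hu hu))
    rw [hA0, zero_mul] at hA1
    refine mul_ne_zero hu hu ?_
    linear_combination (norm := (ring_nf <;> reduce_mod_char!)) e4 + hA1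
  have s1 : nm φ (1 + u)⁻¹ + nm φ (w / ((1 + u) * (1 + u))) = (1 + u + φ u)⁻¹ := by
    rw [nm_inv, nm_div, nm_mul, hnw]
    field_simp
    linear_combination (norm := (ring_nf <;> reduce_mod_char!)) nm_one_add (φ := φ) u
  have s2 : nm φ (l * u)⁻¹ + nm φ (l * w / (l * u * (l * u))) =
      lin φ c u / ((1 + u + φ u) * e) := by
    rw [nm_inv, nm_div, nm_mul, nm_mul, nm_mul, nm_mul, hnw, ← hlL']
    field_simp
    linear_combination (norm := (ring_nf <;> reduce_mod_char!)) nm_one_add (φ := φ) u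
  have s3 : l * w / (l * u * (l * u)) = w * A / (u + w) := by
    rw [eq_div_iff huw, ← hA2]
    field_simp
  have s4 : (1 + u)⁻¹ + w / ((1 + u) * (1 + u)) = 1 + A := ha.symm
  rw [s1, s4, s2, s3] at hb
  have hA1' : A = (u * (1 + u) + w) / ((1 + u) * (1 + u)) :=
    eq_div_of_mul_eq (mul_ne_zero hv hv) hA1
  have he := h.e_ne
  have E0 : (u + w) * (1 + u) * ((1 + u + φ u) * u * e + c * (u * e + φ u * e + lin φ c u) * (1 + u)) +
      e * (1 + u + φ u) * φ A * w * (u * u) = 0 := by
    have hb2 := hb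
    rw [show φ (1 + A) = 1 + φ A by rw [map_add φ (1 : F) A, map_one]] at hb2
    generalize φ A = P at hb2 ⊢
    rw [hA1'] at hb2
    field_simp at hb2
    linear_combination (norm := (ring_nf <;> reduce_mod_char!)) hb2
  refine ⟨?_, l, hlL', ?_⟩
  · have hφw : φ w = φ u * φ (1 + u) * ρ / (1 + u + φ u) := by
      rw [hw, map_div₀, map_mul, ← hρ]
      field_simp
    have hP : φ A = (φ u * φ (1 + u) + φ w) / (φ (1 + u) * φ (1 + u)) := by
      rw [hA1', map_div₀, map_add, map_mul, map_mul]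
    rw [hP, hφw, hw] at E0
    generalize φ (1 + u) = Y at hφv E0 ⊢
    field_simp at E0 ⊢
    rw [mul_zero] at E0
    linear_combination (norm := (ring_nf <;> reduce_mod_char!))
      (mul_eq_zero.1 E0).resolve_left (mul_ne_zero hu hv)
  · have h5 : (u + w) * ((1 + u) * (1 + u)) = l * (u * u) * (u * (1 + u) + w) := by
      rw [← hA2, ← hA1]; ring
    rw [hw] at h5
    field_simp at h5
    linear_combination (norm := (ring_nf <;> reduce_mod_char!)) h5

/-- Distinct field endomorphisms are linearly independent. -/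
theorem coeff_zero {n : ℕ} (σ : Fin n → (F →+* F)) (hσ : Function.Injective σ) (a : Fin n → F)
    (h0 : ∀ x, ∑ i, a i * σ i x = 0) : ∀ i, a i = 0 := by
  have hli : LinearIndependent F (fun i => ((σ i).toMonoidHom : F → F)) :=
    (linearIndependent_monoidHom F F).comp (fun i => (σ i).toMonoidHom) fun i j e1 =>
      hσ (RingHom.ext fun x => DFunLike.congr_fun e1 x)
  refine Fintype.linearIndependent_iff.1 hli a (funext fun x => ?_)
  simp only [Finset.sum_apply, Pi.smul_apply, smul_eq_mul, Pi.zero_apply]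
  exact h0 x

theorem exists_ne_of_four {h4 : F} (hx : h4 * h4 * (h4 * h4) ≠ h4) : h4 ≠ 0 ∧ h4 ≠ 1 :=
  ⟨fun e1 => hx (by rw [e1]; ring), fun e1 => hx (by rw [e1]; ring)⟩

/-- The coefficients of the additive identity. -/
theorem coeff_eqs (hφ : φ ≠ RingEquiv.refl F) (h4 : ∃ x : F, x * x * (x * x) ≠ x) {γ ε δ : F}
    (h0 : ∀ u, γ * (u + u * u) + ε * (u + φ u) + δ * (φ u + φ u * φ u) = 0) :
    (γ + δ + ε = 0 ∧ δ = 0) ∨ (γ + δ + ε = 0 ∧ γ = 0) ∨ (γ = 0 ∧ δ = 0 ∧ ε = 0) := by
  obtain ⟨x₀, hx₀⟩ := h4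
  set S : F →+* F := frobenius F 2
  set P : F →+* F := (φ : F →+* F)
  have hS : ∀ x, S x = x * x := fun x => by rw [frobenius_def, pow_two]
  have hSid : RingHom.id F ≠ S := fun e1 => hx₀ (by
    have h1 : x₀ * x₀ = x₀ := (hS x₀).symm.trans (DFunLike.congr_fun e1 x₀).symm
    rw [h1, h1])
  have hS2id : RingHom.id F ≠ S.comp S := fun e1 => hx₀ (by
    have h1 : x₀ = S (S x₀) := DFunLike.congr_fun e1 x₀
    rwa [hS, hS, eq_comm] at h1)
  have hSsurj : Function.Surjective S := Finite.surjective_of_injective S.injective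
  have hPid : RingHom.id F ≠ P := fun e1 => hφ (RingEquiv.ext fun x => (DFunLike.congr_fun e1 x).symm)
  by_cases c1 : P = S
  · left
    have hpt : ∀ x, φ x = x * x := fun x => (DFunLike.congr_fun c1 x).trans (hS x)
    have := coeff_zero ![RingHom.id F, S, S.comp S] (by
      intro i j e1
      fin_cases i <;> fin_cases j <;> first
        | rfl
        | exact absurd e1 hSid
        | exact absurd e1.symm hSid
        | exact absurd e1 hS2id
        | exact absurd e1.symm hS2id
        | exact absurd (RingHom.ext fun x => S.injective (DFunLike.congr_fun e1 x)) hSid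
        | exact absurd (RingHom.ext fun x => S.injective (DFunLike.congr_fun e1.symm x)) hSid)
      ![γ + ε, γ + ε + δ, δ] fun x => by
        simp only [Fin.sum_univ_three, Matrix.cons_val_zero, Matrix.cons_val_one, Matrix.cons_val,
          RingHom.id_apply, RingHom.comp_apply, hS]
        have h1 := h0 x
        rw [hpt] at h1
        linear_combination (norm := (ring_nf <;> reduce_mod_char!)) h1
    have a1 := this 1
    have a2 := this 2
    simp only [Matrix.cons_val_one, Matrix.cons_val] at a1 a2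
    exact ⟨by linear_combination a1, a2⟩
  by_cases c2 : P.comp S = RingHom.id F
  · right; left
    have hpt : ∀ x, φ x * φ x = x := fun x => by
      have h1 : φ (S x) = x := DFunLike.congr_fun c2 x
      rw [hS, map_mul] at h1
      exact h1
    have := coeff_zero ![RingHom.id F, S, P] (by
      intro i j e1
      fin_cases i <;> fin_cases j <;> first
        | rfl
        | exact absurd e1 hSid
        | exact absurd e1.symm hSid
        | exact absurd e1 hPid
        | exact absurd e1.symm hPid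
        | exact absurd e1 c1
        | exact absurd e1.symm c1)
      ![γ + ε + δ, γ, ε + δ] fun x => by
        simp only [Fin.sum_univ_three, Matrix.cons_val_zero, Matrix.cons_val_one, Matrix.cons_val,
          RingHom.id_apply, hS]
        show _ + _ + (ε + δ) * φ x = 0
        have h1 := h0 x
        rw [hpt] at h1
        linear_combination (norm := (ring_nf <;> reduce_mod_char!)) h1
    have a1 := this 0
    have a2 := this 1
    simp only [Matrix.cons_val_zero, Matrix.cons_val_one] at a1 a2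
    exact ⟨by linear_combination a1, a2⟩
  right; right
  have hPS : S ≠ P.comp S := fun e1 => hPid (RingHom.ext fun x => by
    obtain ⟨y, rfl⟩ := hSsurj x
    exact DFunLike.congr_fun e1 y)
  have hPP : P ≠ P.comp S := fun e1 => hSid (RingHom.ext fun x =>
    P.injective (DFunLike.congr_fun e1 x))
  have := coeff_zero ![RingHom.id F, S, P, P.comp S] (by
    intro i j e1
    fin_cases i <;> fin_cases j <;> first
      | rfl
      | exact absurd e1 hSid
      | exact absurd e1.symm hSid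
      | exact absurd e1 hPid
      | exact absurd e1.symm hPid
      | exact absurd e1 c1
      | exact absurd e1.symm c1
      | exact absurd e1 c2
      | exact absurd e1.symm c2
      | exact absurd e1 hPS
      | exact absurd e1.symm hPS
      | exact absurd e1 hPP
      | exact absurd e1.symm hPP)
    ![γ + ε, γ, ε + δ, δ] fun x => by
      simp only [Fin.sum_univ_four, Matrix.cons_val_zero, Matrix.cons_val_one, Matrix.cons_val,
        RingHom.id_apply, RingHom.comp_apply, hS]
      show _ + _ + (ε + δ) * φ x + δ * φ (x * x) = 0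
      rw [map_mul]
      linear_combination (norm := (ring_nf <;> reduce_mod_char!)) h0 x
  have a1 := this 0
  have a2 := this 1
  have a3 := this 3
  simp only [Matrix.cons_val_zero, Matrix.cons_val_one, Matrix.cons_val] at a1 a2 a3
  exact ⟨a2, a3, by linear_combination a1 - a2⟩

/-- The alternatives for the automorphism. -/
theorem Frame.dichotomy (h : Frame φ c e X K t) (hφ : φ ≠ RingEquiv.refl F)
    (h4 : ∃ x : F, x * x * (x * x) ≠ x) :
    ((∀ x, φ (φ x) = x * x) ∧ c = 1 ∧ e = 1) ∨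
      ((∀ x, φ (φ x) * φ (φ x) = x) ∧ c = 0) := by
  set α := c * (1 + (1 + c) / e) with hα
  set β := c * (1 + c / e) with hβ
  have hsum : c / e = α + β := by
    rw [hα, hβ]
    linear_combination (norm := (ring_nf <;> reduce_mod_char!)) (0 : F) = 0
  have hD : ∀ u, (1 + u + φ u) * u + c * (u + φ u + lin φ c u / e) * (1 + u) =
      (1 + α) * (u * (1 + u)) + u * φ u + β * (1 + u) * φ u := fun u => by
    rw [hα, hβ, lin_apply]
    linear_combination (norm := (ring_nf <;> reduce_mod_char!)) (0 : F) = 0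
  have hid : ∀ u, (1 + α) * ((1 + α) + 1) * (u + u * u) + (1 + α) * β * (u + φ u) +
      β * (1 + β) * (φ u + φ u * φ u) = 0 := by
    intro u
    rcases eq_or_ne u 0 with rfl | hu
    · simp
    rcases eq_or_ne u 1 with rfl | hu1
    · rw [map_one]
      linear_combination (norm := (ring_nf <;> reduce_mod_char!)) (0 : F) = 0
    have hd := h.d_ne_zero u
    obtain ⟨ρ, -, hρ⟩ := h.exists_nm_ne hd
    have hv := ne_of_one_add hu1
    have i1 := (h.key hu hu1 (ρ := ρ) hρ).1
    have i2 := (h.key hv (fun e1 => hu (add_eq_left.1 e1)) (ρ := ρ) (by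
      rw [show φ ρ * ρ = 1 + u + φ u from hρ, map_add, map_one]
      linear_combination (norm := (ring_nf <;> reduce_mod_char!)) (0 : F) = 0)).1
    rw [hD, one_add_one_add] at i2
    rw [hD] at i1
    rw [map_add, map_one] at i1 i2
    generalize hX : φ u = x at i1 i2 hd ⊢
    have hx0 : x ≠ 0 := hX ▸ (map_ne_zero φ).2 hu
    have hx1 : 1 + x ≠ 0 := hX ▸ (by rw [← map_one φ, ← map_add]; exact (map_ne_zero φ).2 hv)
    set D₁ := (1 + α) * (u * (1 + u)) + u * x + β * (1 + u) * x with hD₁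
    set D₂ := (1 + α) * ((1 + u) * u) + (1 + u) * (1 + x) + β * u * (1 + x) with hD₂
    have hcross : x * (1 + x) * (u * u * x * D₂ + (1 + u) * (1 + u) * (1 + x) * D₁ + D₁ * D₂) = 0 := by
      linear_combination (norm := (ring_nf <;> reduce_mod_char!))
        (x * D₂ + (1 + u) * (1 + u) * (1 + x)) * i1 + ((1 + x) * D₁ + u * u * x) * i2
    have h6 := (mul_eq_zero.1 hcross).resolve_left (mul_ne_zero hx0 hx1)
    refine (mul_eq_zero.1 (?_ : u * (1 + u) * _ = 0)).resolve_left (mul_ne_zero hu hv)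
    rw [hD₁, hD₂] at h6
    linear_combination (norm := (ring_nf <;> reduce_mod_char!)) h6
  clear_value α β
  have hopt : (1 + α = 0 ∧ β = 0) ∨ (1 + α = 0 ∧ β = 1) ∨ (1 + α = 1 ∧ β = 0) := by
    generalize 1 + α = a at hid
    have h01 : ∀ x : F, x * (x + 1) = 0 → x = 0 ∨ x = 1 := fun x hx =>
      (mul_eq_zero.1 hx).imp id CharTwo.add_eq_zero.1
    have h01' : ∀ x : F, x * (1 + x) = 0 → x = 0 ∨ x = 1 := fun x hx =>
      h01 x (by rwa [add_comm])
    rcases coeff_eqs hφ h4 hid with ⟨e1, e2⟩ | ⟨e1, e2⟩ | ⟨e1, e2, e3⟩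
    · rcases h01' β e2 with b0 | b1
      · rw [b0, zero_mul, mul_zero, add_zero, add_zero] at e1
        rcases h01 a e1 with a0 | a1
        exacts [Or.inl ⟨a0, b0⟩, Or.inr (Or.inr ⟨a1, b0⟩)]
      · rw [b1, CharTwo.add_self_eq_zero, mul_zero, add_zero, mul_one] at e1
        refine Or.inr (Or.inl ⟨mul_self_eq_zero.1 ?_, b1⟩)
        linear_combination (norm := (ring_nf <;> reduce_mod_char!)) e1
    · rcases h01 a e2 with a0 | a1
      · rw [a0, zero_mul, zero_mul, zero_add, add_zero] at e1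
        rcases h01' β e1 with b0 | b1
        exacts [Or.inl ⟨a0, b0⟩, Or.inr (Or.inl ⟨a0, b1⟩)]
      · rw [a1, CharTwo.add_self_eq_zero, mul_zero, zero_add, one_mul] at e1
        refine Or.inr (Or.inr ⟨a1, mul_self_eq_zero.1 ?_⟩)
        linear_combination (norm := (ring_nf <;> reduce_mod_char!)) e1
    · rcases h01 a e1 with a0 | a1 <;> rcases h01' β e2 with b0 | b1
      · exact Or.inl ⟨a0, b0⟩
      · exact Or.inr (Or.inl ⟨a0, b1⟩)
      · exact Or.inr (Or.inr ⟨a1, b0⟩)
      · rw [a1, b1, one_mul] at e3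
        exact absurd e3 one_ne_zero
  have hα1 : 1 + α = 0 → α = 1 := fun e1 => (CharTwo.add_eq_zero.1 e1).symm
  rcases hopt with ⟨a0, b0⟩ | ⟨a0, b1⟩ | ⟨a1, b0⟩
  · -- the Suzuki case
    left
    have hce : c = e := by
      rw [hα1 a0, b0, add_zero, div_eq_one_iff_eq h.e_ne] at hsum
      exact hsum
    have hred : ∀ u, u ≠ 0 → u ≠ 1 → ∀ ρ, φ ρ * ρ = 1 + u + φ u →
        ρ * (1 + u + φ u) = 1 + φ u + u * u := fun u hu hu1 ρ hρ => by
      have i1 := (h.key hu hu1 hρ).1
      rw [hD, a0, b0, map_add, map_one] at i1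
      refine CharTwo.add_eq_zero.1 ((mul_eq_zero.1 (?_ : u * φ u * _ = 0)).resolve_left
        (mul_ne_zero hu ((map_ne_zero φ).2 hu)))
      linear_combination (norm := (ring_nf <;> reduce_mod_char!)) i1
    have hsq : ∀ u, φ (φ u) = u * u := fun u => by
      rcases eq_or_ne u 0 with rfl | hu
      · simp
      rcases eq_or_ne u 1 with rfl | hu1
      · simp
      obtain ⟨ρ, -, hρ⟩ := h.exists_nm_ne (h.d_ne_zero u)
      have hρ' : φ ρ * ρ = 1 + u + φ u := hρ
      have r1 := hred u hu hu1 ρ hρ'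
      have r2 := congrArg φ r1
      simp only [map_mul, map_add, map_one] at r2
      refine CharTwo.add_eq_zero.1 ((mul_eq_zero.1 (?_ : φ u * (1 + φ u) * _ = 0)).resolve_left
        (mul_ne_zero ((map_ne_zero φ).2 hu) ?_))
      · linear_combination (norm := (ring_nf <;> reduce_mod_char!))
          (φ ρ * (1 + φ u + φ (φ u))) * r1 + (1 + φ u + u * u) * r2 +
            (1 + u + φ u) * (1 + φ u + φ (φ u)) * hρ'
      · rw [← map_one φ, ← map_add]; exact (map_ne_zero φ).2 (ne_of_one_add hu1)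
    obtain ⟨x₀, hx₀⟩ := h4
    obtain ⟨hu, hu1⟩ := exists_ne_of_four hx₀
    obtain ⟨ρ, -, hρ⟩ := h.exists_nm_ne (h.d_ne_zero x₀)
    have r1 := hred x₀ hu hu1 ρ hρ
    obtain ⟨-, l, hlL, hl⟩ := h.key hu hu1 hρ
    have hl2 : l * (x₀ * x₀) = φ x₀ := by
      refine CharTwo.add_eq_zero.1 ((mul_eq_zero.1 (?_ : x₀ * (1 + x₀) * _ = 0)).resolve_left
        (mul_ne_zero hu (ne_of_one_add hu1)))
      linear_combination (norm := (ring_nf <;> reduce_mod_char!))
        (1 + x₀ + φ x₀) * hl + (l * (x₀ * x₀) + 1 + x₀) * r1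
    have hl3 : φ l * (φ x₀ * φ x₀) = x₀ * x₀ := by rw [← map_mul, ← map_mul, hl2, hsq]
    have hn : nm φ l * φ x₀ = 1 := by
      refine CharTwo.add_eq_zero.1 ((mul_eq_zero.1 (?_ : φ x₀ * (x₀ * x₀) * _ = 0)).resolve_left
        (mul_ne_zero ((map_ne_zero φ).2 hu) (mul_ne_zero hu hu)))
      rw [nm]
      linear_combination (norm := (ring_nf <;> reduce_mod_char!))
        (φ l * (φ x₀ * φ x₀)) * hl2 + φ x₀ * hl3
    have hc : c = 1 := by
      refine CharTwo.add_eq_zero.1 ((mul_eq_zero.1 (?_ : x₀ * _ = 0)).resolve_left hu)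
      rw [lin_apply, hce] at hlL
      rw [hce]
      linear_combination (norm := (ring_nf <;> reduce_mod_char!))
        φ x₀ * hlL + (x₀ + e * (x₀ + φ x₀)) * hn
    exact ⟨hsq, hc, hce.symm.trans hc⟩
  · exfalso
    rw [hα1 a0, b1, CharTwo.add_self_eq_zero, div_eq_zero_iff] at hsum
    rw [hβ, hsum.resolve_right h.e_ne, zero_mul] at b1
    exact zero_ne_one b1
  · right
    have hc : c = 0 := by
      rw [add_eq_left.1 a1, b0, add_zero, div_eq_zero_iff] at hsum
      exact hsum.resolve_right h.e_ne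
    refine ⟨fun u => ?_, hc⟩
    rcases eq_or_ne u 0 with rfl | hu
    · simp
    rcases eq_or_ne u 1 with rfl | hu1
    · simp
    have hd := h.d_ne_zero u
    obtain ⟨ρ, -, hρ⟩ := h.exists_nm_ne hd
    have hρ' : φ ρ * ρ = 1 + u + φ u := hρ
    have i1 := (h.key hu hu1 hρ').1
    rw [hD, a1, b0, map_add, map_one] at i1
    have r1 : ρ * (1 + u + φ u * φ u) = (1 + u + φ u) * (1 + u + φ u) := by
      refine CharTwo.add_eq_zero.1 ((mul_eq_zero.1 (?_ : u * _ = 0)).resolve_left hu)
      linear_combination (norm := (ring_nf <;> reduce_mod_char!)) i1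
    have r2 := congrArg φ r1
    simp only [map_mul, map_add, map_one] at r2
    refine CharTwo.add_eq_zero.1 ((mul_eq_zero.1
      (?_ : (1 + u + φ u) * (φ u * (1 + φ u)) * _ = 0)).resolve_left (mul_ne_zero hd
        (mul_ne_zero ((map_ne_zero φ).2 hu) ?_)))
    · linear_combination (norm := (ring_nf <;> reduce_mod_char!))
        (φ ρ * (1 + φ u + φ (φ u) * φ (φ u))) * r1 +
          (1 + u + φ u) * (1 + u + φ u) * r2 +
            (1 + u + φ u * φ u) * (1 + φ u + φ (φ u) * φ (φ u)) * hρ'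
    · rw [← map_one φ, ← map_add]; exact (map_ne_zero φ).2 (ne_of_one_add hu1)

/-- The frame with the inverse automorphism. -/
theorem Frame.swap (h : Frame φ c e X K t) :
    Frame φ.symm (c + 1) e (fun a b => X (φ.symm a) (b + a * φ.symm a)) (fun l => K (φ.symm l)) t where
  e_ne := h.e_ne
  nm_inj x y e1 := by
    refine φ.symm.injective (h.nm_inj ?_)
    simp only [nm, φ.apply_symm_apply] at e1 ⊢
    linear_combination e1
  X_mul a b a' b' := by
    rw [h.X_mul, φ.apply_symm_apply, map_add]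
    congr 1
    linear_combination (norm := (ring_nf <;> reduce_mod_char!)) (0 : F) = 0
  K_mul l m hl hm := by
    rw [map_mul, h.K_mul _ _ ((map_ne_zero φ.symm).2 hl) ((map_ne_zero φ.symm).2 hm)]
  conj l hl a b := by
    rw [h.conj _ ((map_ne_zero φ.symm).2 hl), φ.apply_symm_apply, map_mul]
    congr 2
    ring
  t_t := h.t_t
  t_K l hl := by rw [h.t_K _ ((map_ne_zero φ.symm).2 hl), map_inv₀]
  base := by
    rw [map_zero, map_one, zero_mul, add_zero, one_mul, add_assoc, CharTwo.add_self_eq_zero, add_zero]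
    exact h.base
  uniq a b l x y a' b' l' x' y' hl hl' e1 := by
    obtain ⟨e2, e3, e4, e5, e6⟩ := h.uniq _ _ _ _ _ _ _ _ _ _ ((map_ne_zero φ.symm).2 hl)
      ((map_ne_zero φ.symm).2 hl') e1
    obtain rfl := φ.symm.injective e2
    obtain rfl := φ.symm.injective e5
    exact ⟨rfl, add_right_cancel e3, φ.symm.injective e4, rfl, add_right_cancel e6⟩
  ne_one a b l x y hl := h.ne_one _ _ _ _ _ ((map_ne_zero φ.symm).2 hl)
  eq_one a b l hl e1 := by
    obtain ⟨e2, e3, e4⟩ := h.eq_one _ _ _ ((map_ne_zero φ.symm).2 hl) e1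
    obtain rfl := φ.symm.map_eq_zero_iff.1 e2
    exact ⟨rfl, by simpa using e3, φ.symm.map_eq_one_iff.1 e4⟩

/-- A frame can be normalised to one with `φ ^ 2` the Frobenius map and `c = e = 1`. -/
theorem Frame.normalise (h : Frame φ c e X K t) (hφ : φ ≠ RingEquiv.refl F)
    (h4 : ∃ x : F, x * x * (x * x) ≠ x) :
    ∃ (φ' : F ≃+* F) (X' : F → F → G) (K' : F → G), Frame φ' 1 1 X' K' t ∧
      (∀ x, φ' (φ' x) = x * x) ∧ (φ' = φ ∨ φ' = φ.symm) ∧ gen X' K' t = gen X K t := by
  rcases h.dichotomy hφ h4 with ⟨hsq, rfl, rfl⟩ | ⟨hsq, rfl⟩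
  · exact ⟨φ, X, K, h, hsq, Or.inl rfl, rfl⟩
  have h' := h.swap
  rw [zero_add] at h'
  have hφ' : φ.symm ≠ RingEquiv.refl F := fun e1 => hφ (RingEquiv.ext fun x => by
    rw [← φ.symm.injective.eq_iff, φ.symm_apply_apply, e1]; rfl)
  obtain ⟨hsq', -, rfl⟩ : (∀ x, φ.symm (φ.symm x) = x * x) ∧ (1 : F) = 1 ∧ e = 1 := by
    rcases h'.dichotomy hφ' h4 with h1 | ⟨-, h1⟩
    · exact h1
    · exact absurd h1 one_ne_zero
  refine ⟨_, _, _, h', hsq', Or.inr rfl, le_antisymm ?_ ?_⟩
  · refine (Subgroup.closure_le _).2 ?_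
    rintro g ((⟨p, rfl⟩ | ⟨l, hl, rfl⟩) | rfl)
    · exact X_mem_gen _ _
    · exact K_mem_gen ((map_ne_zero φ.symm).2 hl)
    · exact t_mem_gen
  · refine (Subgroup.closure_le _).2 ?_
    rintro g ((⟨p, rfl⟩ | ⟨l, hl, rfl⟩) | rfl)
    · have h1 := X_mem_gen (X := fun a b => X (φ.symm a) (b + a * φ.symm a))
        (K := fun l => K (φ.symm l)) (t := t) (φ p.1) (p.2 + φ p.1 * p.1)
      simpa [φ.symm_apply_apply, add_assoc, CharTwo.add_self_eq_zero] using h1
    · have h1 := K_mem_gen (X := fun a b => X (φ.symm a) (b + a * φ.symm a))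
        (K := fun l => K (φ.symm l)) (t := t) ((map_ne_zero φ).2 hl)
      simpa using h1
    · exact t_mem_gen

end Cfsg.Agent.Involutions.RankOne.Sz
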