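import Cfsg.Agent.Lib.Involutions.Suzuki.TypeA

/-!
# Coordinates of a 2-group of type A in which a regular torus is diagonal

The section of the quotient by the centre is averaged over the torus.
-/

set_option autoImplicit false
set_option linter.style.haveILetI false
set_option linter.unusedSectionVars false

namespace Cfsg.Agent.Involutions.RankOne.Sz

open Cfsg.Agent.Involutions.Suzuki

variable {P : Type*} [Group P] [Finite P] {K : Subgroup (MulAut P)}

/-- Coordinates in which `K` is diagonal. -/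
theorem exists_coords (hK : Regular K) (h2 : IsPGroup 2 P) (hne : ∃ x y : P, x * y ≠ y * x)
    (hcard : Nat.card P = Nat.card (Subgroup.center P) ^ 2) :
    ∃ (F : Type) (_ : Field F) (_ : Fintype F) (_ : CharP F 2) (φ : F ≃+* F) (X : F → F → P)
      (κ : F → K), φ ≠ RingEquiv.refl F ∧ Odd (orderOf φ) ∧
        Fintype.card F = Nat.card (Subgroup.center P) ∧
        Function.Bijective (fun p : F × F => X p.1 p.2) ∧
        (∀ a b a' b', X a b * X a' b' = X (a + a') (b + b' + φ a * a')) ∧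
        (∀ k : K, ∃ l, l ≠ 0 ∧ κ l = k) ∧
        (∀ l m, l ≠ 0 → m ≠ 0 → κ (l * m) = κ l * κ m) ∧
        (∀ l l', l ≠ 0 → l' ≠ 0 → κ l = κ l' → l = l') ∧
        ∀ l, l ≠ 0 → ∀ a b, (κ l : MulAut P) (X a b) = X (l * a) (φ l * l * b) := by
  classical
  obtain ⟨F, iF, iT, iC, φ, f, lam, hF, hφ, hodd, hlam0, hlams, hlamm, hV, hZ⟩ :=
    TypeA.type_a_data hK h2 hne hcard
  let Y : F → F → P := fun a b => f.symm ⟨TypeA.unit φ a b, (TypeA.mem_iff φ).2 ⟨a, b, rfl⟩⟩
  have hfY : ∀ a b, (f (Y a b) : GL (Fin 3) F) = TypeA.unit φ a b := fun a b => by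
    show ((f (f.symm _) : Cfsg.suzukiTypeA F (φ : F →+* F)) : GL (Fin 3) F) = _
    rw [f.apply_symm_apply]
  have hYmul : ∀ a b a' b', Y a b * Y a' b' = Y (a + a') (b + b' + φ a * a') := fun a b a' b' => by
    refine f.injective (Subtype.ext ?_)
    rw [map_mul, Subgroup.coe_mul, hfY, hfY, hfY, TypeA.unit_mul]
  have hYinj : ∀ {a b a' b'}, Y a b = Y a' b' → a = a' ∧ b = b' := fun {a b a' b'} h =>
    TypeA.unit_injective φ (by rw [← hfY, ← hfY, h])
  have hYsurj : ∀ x, ∃ a b, Y a b = x := fun x => by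
    obtain ⟨a, b, h⟩ := (TypeA.mem_iff φ).1 (f x).2
    exact ⟨a, b, f.injective (Subtype.ext (by rw [hfY, h]))⟩
  -- the action in coordinates
  have hact : ∀ k : K, ∀ a, ∃ d, (k : MulAut P) (Y a 0) = Y (lam k * a) d := fun k a => by
    obtain ⟨w, hw⟩ := hV k (Y a 0) a 0 (hfY a 0)
    exact ⟨w, f.injective (Subtype.ext (by rw [hw, hfY]))⟩
  choose δ hδ using hact
  have hactZ : ∀ (k : K) b, (k : MulAut P) (Y 0 b) = Y 0 (φ (lam k) * lam k * b) := fun k b =>
    f.injective (Subtype.ext (by rw [hZ k (Y 0 b) b (hfY 0 b), hfY]))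
  have hactY : ∀ (k : K) a b,
      (k : MulAut P) (Y a b) = Y (lam k * a) (δ k a + φ (lam k) * lam k * b) := fun k a b => by
    have e : Y a b = Y a 0 * Y 0 b := by rw [hYmul, add_zero, zero_add, mul_zero, add_zero]
    rw [e, map_mul, hδ, hactZ, hYmul, add_zero, mul_zero, add_zero]
  have hδadd : ∀ k a a', δ k (a + a') = δ k a + δ k a' := fun k a a' => by
    have e := congrArg (fun x => (k : MulAut P) x) (hYmul a 0 a' 0)
    rw [map_mul, hδ, hδ, hactY, hYmul, zero_add, zero_add] at e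
    have h1 := (hYinj e).2
    rw [map_mul] at h1
    linear_combination -h1
  have hlam_inj : Function.Injective lam := fun k l h => by
    have h1 : Y 0 1 ≠ 1 := fun e => by
      have e1 : Y 0 1 * Y 0 1 = Y 0 1 := by rw [e, one_mul]
      rw [hYmul, map_zero, zero_mul, add_zero, CharTwo.add_self_eq_zero, add_zero] at e1
      exact one_ne_zero (hYinj e1).2.symm
    have h2 : Y 0 1 * Y 0 1 = 1 := by
      have e0 : Y 0 0 = 1 := by
        have e1 := hYmul 0 0 0 0
        rw [map_zero, zero_mul, add_zero, add_zero] at e1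
        exact mul_eq_left.1 e1
      rw [hYmul, map_zero, zero_mul, add_zero, CharTwo.add_self_eq_zero, add_zero, e0]
    exact (hK.regular _ _ h1 h2 (fun e => h1 ((k : MulAut P).map_eq_one_iff.1 e))
      (sq_map (k : MulAut P) h2)).unique rfl (by rw [hactZ, hactZ, h])
  have hκ : ∀ l : F, ∃ k : K, l ≠ 0 → lam k = l := fun l => by
    by_cases hl : l = 0
    · exact ⟨1, fun h => absurd hl h⟩
    · obtain ⟨k, hk⟩ := hlams l hl
      exact ⟨k, fun _ => hk⟩
  choose κ hκ using hκ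
  have hκm : ∀ l m, l ≠ 0 → m ≠ 0 → κ (l * m) = κ l * κ m := fun l m hl hm =>
    hlam_inj (by rw [hlamm, hκ _ (mul_ne_zero hl hm), hκ l hl, hκ m hm])
  have hδm : ∀ l m, l ≠ 0 → m ≠ 0 → ∀ a,
      δ (κ (l * m)) a = δ (κ l) (m * a) + φ l * l * δ (κ m) a := by
    intro l m hl hm a
    have e : ((κ (l * m) : K) : MulAut P) (Y a 0) =
        (κ l : MulAut P) ((κ m : MulAut P) (Y a 0)) := by rw [hκm l m hl hm, coe_mul_apply]
    rw [hδ, hδ, hactY, hκ l hl, hκ m hm] at e
    exact (hYinj e).2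
  -- the averaged section
  let L : F → F := fun a => ∑ m : Fˣ, (φ (m : F) * (m : F))⁻¹ * δ (κ (m : F)) a
  have hLadd : ∀ a a', L (a + a') = L a + L a' := fun a a' => by
    show ∑ m : Fˣ, _ = ∑ m : Fˣ, _ + ∑ m : Fˣ, _
    rw [← Finset.sum_add_distrib]
    exact Finset.sum_congr rfl fun m _ => by rw [hδadd, mul_add]
  have hodd_units : ((Fintype.card Fˣ : ℕ) : F) = 1 := by
    rw [Fintype.card_units, Nat.cast_sub (Fintype.card_pos), FiniteField.cast_card_eq_zero,
      Nat.cast_one, zero_sub, CharTwo.neg_eq]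
  have hL : ∀ l, l ≠ 0 → ∀ a, L (l * a) = φ l * l * L a + δ (κ l) a := by
    intro l hl a
    set u : Fˣ := Units.mk0 l hl with hu
    have hterm : ∀ m : Fˣ, (φ (m : F) * (m : F))⁻¹ * δ (κ (m : F)) (l * a) =
        φ l * l * ((φ ((m * u : Fˣ) : F) * ((m * u : Fˣ) : F))⁻¹ * δ (κ ((m * u : Fˣ) : F)) a) +
          δ (κ l) a := by
      intro m
      have h1 := hδm (m : F) l m.ne_zero hl a
      have hm := m.ne_zero
      have hφm : φ (m : F) ≠ 0 := (map_ne_zero φ).2 hm
      have hφl : φ l ≠ 0 := (map_ne_zero φ).2 hl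
      rw [Units.val_mul, hu, Units.val_mk0, h1, map_mul]
      field_simp
      linear_combination (norm := (ring_nf <;> reduce_mod_char!)) (0 : F) = 0
    show ∑ m : Fˣ, _ = φ l * l * ∑ m : Fˣ, _ + _
    rw [Finset.sum_congr rfl fun m _ => hterm m, Finset.sum_add_distrib, Finset.sum_const,
      Finset.card_univ, nsmul_eq_mul, hodd_units, one_mul, ← Finset.mul_sum]
    congr 2
    exact Equiv.sum_comp (Equiv.mulRight u)
      (fun m : Fˣ => (φ (m : F) * (m : F))⁻¹ * δ (κ (m : F)) a)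
  refine ⟨F, iF, iT, iC, φ, fun a b => Y a (b + L a), κ, hφ, hodd, hF, ⟨?_, ?_⟩, ?_, ?_, hκm, ?_, ?_⟩
  · rintro ⟨a, b⟩ ⟨a', b'⟩ h
    obtain ⟨rfl, h'⟩ := hYinj h
    exact Prod.ext rfl (add_right_cancel h')
  · intro x
    obtain ⟨a, b, rfl⟩ := hYsurj x
    exact ⟨(a, b - L a), by show Y a (b - L a + L a) = _; rw [sub_add_cancel]⟩
  · intro a b a' b'
    show Y a (b + L a) * Y a' (b' + L a') = Y (a + a') (b + b' + φ a * a' + L (a + a'))
    rw [hYmul, hLadd]
    congr 1
    ring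
  · intro k
    exact ⟨lam k, hlam0 k, hlam_inj (hκ _ (hlam0 k))⟩
  · intro l l' hl hl' h
    rw [← hκ l hl, ← hκ l' hl', h]
  · intro l hl a b
    show (κ l : MulAut P) (Y a (b + L a)) = Y (l * a) (φ l * l * b + L (l * a))
    rw [hactY, hκ l hl, hL l hl]
    congr 1
    ring

end Cfsg.Agent.Involutions.RankOne.Sz
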