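import Mathlib

/-!
# Frames of Suzuki type

An abstract group with a `2`-group `X a b` of type A normalised by a torus `K l`, an involution `t`
inverting the torus, and the relation `t s t = r⁻¹ t r` with `s = X 0 e` and `r = X 1 c`.  In such a
group every `t x t` with `x` in the `2`-group is again in canonical form.
-/

set_option autoImplicit false
set_option linter.unusedSectionVars false
set_option linter.unusedVariables false

namespace Cfsg.Agent.Involutions.RankOne.Sz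

variable {F : Type*} [Field F]

/-- The quadratic map `x ↦ φ x * x`. -/
def nm (φ : F ≃+* F) (x : F) : F := φ x * x

section nm

variable {φ : F ≃+* F}

theorem nm_zero : nm φ 0 = 0 := mul_zero _

theorem nm_one : nm φ 1 = 1 := by rw [nm, map_one, one_mul]

theorem nm_mul (x y : F) : nm φ (x * y) = nm φ x * nm φ y := by
  rw [nm, nm, nm, map_mul]; ring

theorem nm_inv (x : F) : nm φ x⁻¹ = (nm φ x)⁻¹ := by
  rw [nm, nm, map_inv₀, mul_inv]

theorem nm_div (x y : F) : nm φ (x / y) = nm φ x / nm φ y := by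
  rw [div_eq_mul_inv, nm_mul, nm_inv, ← div_eq_mul_inv]

theorem nm_ne_zero {x : F} (hx : x ≠ 0) : nm φ x ≠ 0 := mul_ne_zero ((map_ne_zero φ).2 hx) hx

theorem nm_one_add [CharP F 2] (u : F) : nm φ (1 + u) + nm φ u = 1 + u + φ u := by
  rw [nm, nm, map_add, map_one]
  linear_combination (norm := (ring_nf; reduce_mod_char!)) (0 : F) = 0

end nm

/-- A frame of Suzuki type. -/
structure Frame {G : Type*} [Group G] (φ : F ≃+* F) (c e : F) (X : F → F → G) (K : F → G) (t : G) :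
    Prop where
  e_ne : e ≠ 0
  nm_inj : Function.Injective (nm φ)
  X_mul : ∀ a b a' b', X a b * X a' b' = X (a + a') (b + b' + φ a * a')
  K_mul : ∀ l m, l ≠ 0 → m ≠ 0 → K (l * m) = K l * K m
  conj : ∀ l, l ≠ 0 → ∀ a b, K l * X a b = X (l * a) (φ l * l * b) * K l
  t_t : t * t = 1
  t_K : ∀ l, l ≠ 0 → t * K l = K l⁻¹ * t
  base : t * X 0 e * t = (X 1 c)⁻¹ * t * X 1 c
  uniq : ∀ a b l x y a' b' l' x' y', l ≠ 0 → l' ≠ 0 →
    X a b * K l * t * X x y = X a' b' * K l' * t * X x' y' →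
      a = a' ∧ b = b' ∧ l = l' ∧ x = x' ∧ y = y'
  ne_one : ∀ a b l x y, l ≠ 0 → X a b * K l * t * X x y ≠ 1
  eq_one : ∀ a b l, l ≠ 0 → X a b * K l = 1 → a = 0 ∧ b = 0 ∧ l = 1

namespace Frame

variable {G : Type*} [Group G] {φ : F ≃+* F} {c e : F} {X : F → F → G} {K : F → G} {t : G}
variable [CharP F 2]

theorem X_zero (h : Frame φ c e X K t) : X 0 0 = 1 := by
  have e1 := h.X_mul 0 0 0 0
  rw [map_zero, zero_mul, add_zero, add_zero] at e1
  exact mul_eq_left.1 e1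

theorem K_one (h : Frame φ c e X K t) : K 1 = 1 := by
  have e1 := h.K_mul 1 1 one_ne_zero one_ne_zero
  rw [one_mul] at e1
  exact mul_eq_left.1 e1.symm

theorem X_inv (h : Frame φ c e X K t) (a b : F) : (X a b)⁻¹ = X a (b + φ a * a) :=
  inv_eq_of_mul_eq_one_right (by
    rw [h.X_mul, CharTwo.add_self_eq_zero,
      show b + (b + φ a * a) + φ a * a = 0 by
        linear_combination (norm := (ring_nf; reduce_mod_char!)) (0 : F) = 0,
      h.X_zero])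

theorem K_inv (h : Frame φ c e X K t) {l : F} (hl : l ≠ 0) : (K l)⁻¹ = K l⁻¹ :=
  inv_eq_of_mul_eq_one_right (by
    rw [← h.K_mul l l⁻¹ hl (inv_ne_zero hl), mul_inv_cancel₀ hl, h.K_one])

theorem conj' (h : Frame φ c e X K t) {l : F} (hl : l ≠ 0) (a b : F) :
    X a b * K l = K l * X (l⁻¹ * a) (φ l⁻¹ * l⁻¹ * b) := by
  rw [h.conj l hl, mul_inv_cancel_left₀ hl]
  congr 2
  rw [map_inv₀]
  have := (map_ne_zero φ).2 hl
  field_simp

theorem t_inv (h : Frame φ c e X K t) : t⁻¹ = t := inv_eq_of_mul_eq_one_right h.t_t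

/-- The scaled copies of `r` and of its inverse. -/
theorem rn_eq (h : Frame φ c e X K t) (l : F) :
    (X l (c * nm φ l))⁻¹ = X l ((c + 1) * nm φ l) := by
  rw [h.X_inv, show c * nm φ l + φ l * l = (c + 1) * nm φ l by rw [nm]; ring]

/-- The product of a copy of `r` and a copy of `r⁻¹`. -/
theorem pair_eq (h : Frame φ c e X K t) (m n : F) :
    X m (c * nm φ m) * X n ((c + 1) * nm φ n) =
      X (m + n) (c * (nm φ m + nm φ n) + φ (m + n) * n) := by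
  rw [h.X_mul]
  congr 1
  rw [nm, nm, map_add]
  ring

theorem t_mul_t (h : Frame φ c e X K t) (x y : G) : t * (x * y) * t = (t * x * t) * (t * y * t) := by
  calc t * (x * y) * t = t * x * (t * t) * y * t := by rw [h.t_t, mul_one]; group
    _ = (t * x * t) * (t * y * t) := by group

/-- The formula on the centre. -/
theorem center_form (h : Frame φ c e X K t) {l b : F} (hl : l ≠ 0) (hb : nm φ l * b = e) :
    t * X 0 b * t = X l ((c + 1) * nm φ l) * K (l * l) * t * X l (c * nm φ l) := by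
  have hz : X 0 b = (K l)⁻¹ * X 0 e * K l := by
    rw [mul_assoc, eq_inv_mul_iff_mul_eq, h.conj l hl, mul_zero, ← hb]
    rfl
  have h1 : K l * (X 1 c)⁻¹ = X l ((c + 1) * nm φ l) * K l := by
    rw [h.X_inv, h.conj l hl, mul_one, map_one, one_mul, nm]
    congr 2
    ring
  have h2 : X 1 c * (K l)⁻¹ = (K l)⁻¹ * X l (c * nm φ l) := by
    rw [eq_inv_mul_iff_mul_eq, ← mul_assoc, h.conj l hl, mul_one, mul_inv_cancel_right, nm, mul_comm]
  calc t * X 0 b * t = (t * (K l)⁻¹) * X 0 e * (K l * t) := by rw [hz]; group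
    _ = K l * (t * X 0 e * t) * (K l)⁻¹ := by
        have a1 : t * (K l)⁻¹ = K l * t := by rw [h.K_inv hl, h.t_K _ (inv_ne_zero hl), inv_inv]
        rw [a1, ← a1]
        conv_lhs => arg 1; rw [a1]
        group
    _ = (K l * (X 1 c)⁻¹) * t * (X 1 c * (K l)⁻¹) := by rw [h.base]; group
    _ = X l ((c + 1) * nm φ l) * (K l * (t * (K l)⁻¹)) * X l (c * nm φ l) := by rw [h1, h2]; group
    _ = _ := by
        rw [h.K_inv hl, h.t_K _ (inv_ne_zero hl), inv_inv, ← mul_assoc (K l), ← h.K_mul l l hl hl]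
        group

theorem t_r_t (h : Frame φ c e X K t) : t * X 1 c * t = X 1 c * K 1 * t * X 0 e := by
  rw [h.K_one, mul_one]
  calc t * X 1 c * t = X 1 c * ((X 1 c)⁻¹ * t * X 1 c) * t := by group
    _ = X 1 c * t * X 0 e * (t * t) := by rw [← h.base]; group
    _ = _ := by rw [h.t_t, mul_one]

/-- The formula on a product of a copy of `r` and a copy of `r⁻¹`. -/
theorem pair_form (h : Frame φ c e X K t) {l₁ l₂ l₃ : F} (h1 : l₁ ≠ 0) (h2 : l₂ ≠ 0) (h3 : l₃ ≠ 0)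
    (hsum : (nm φ l₁)⁻¹ + (nm φ l₂)⁻¹ = (nm φ l₃)⁻¹) :
    t * (X l₁ (c * nm φ l₁) * X l₂ ((c + 1) * nm φ l₂)) * t =
      (X l₁⁻¹ (c * nm φ l₁⁻¹) * X (l₃ / (l₁ * l₁)) ((c + 1) * nm φ (l₃ / (l₁ * l₁)))) *
        K ((l₃ / (l₁ * l₂)) * (l₃ / (l₁ * l₂))) * t *
        (X (l₃ / (l₂ * l₂)) (c * nm φ (l₃ / (l₂ * l₂))) * X l₂⁻¹ ((c + 1) * nm φ l₂⁻¹)) := by
  have hz : ∀ l, l ≠ 0 → nm φ l * (e * (nm φ l)⁻¹) = e := fun l hl => by
    rw [mul_left_comm, mul_inv_cancel₀ (nm_ne_zero hl), mul_one]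
  have hprod : (t * X 0 (e * (nm φ l₁)⁻¹) * t) * (t * X 0 (e * (nm φ l₂)⁻¹) * t) =
      t * X 0 (e * (nm φ l₃)⁻¹) * t := by
    rw [← h.t_mul_t, h.X_mul, map_zero, zero_mul, add_zero, add_zero, ← mul_add, hsum]
  rw [h.center_form h1 (hz _ h1), h.center_form h2 (hz _ h2), h.center_form h3 (hz _ h3)] at hprod
  have hsc : ∀ m l, m ≠ 0 → K m * X l (c * nm φ l) = X (m * l) (c * nm φ (m * l)) * K m := by
    intro m l hm
    rw [h.conj m hm, nm_mul]
    congr 2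
    simp only [nm]; ring
  have hsc' : ∀ m l, m ≠ 0 → K m * X l ((c + 1) * nm φ l) = X (m * l) ((c + 1) * nm φ (m * l)) * K m := by
    intro m l hm
    rw [h.conj m hm, nm_mul]
    congr 2
    simp only [nm]; ring
  set R₁ := X l₁ (c * nm φ l₁)
  set R₁' := X l₁ ((c + 1) * nm φ l₁) with hR₁'
  set R₂ := X l₂ (c * nm φ l₂) with hR₂
  set R₂' := X l₂ ((c + 1) * nm φ l₂) with hR₂'
  set R₃ := X l₃ (c * nm φ l₃) with hR₃
  set R₃' := X l₃ ((c + 1) * nm φ l₃) with hR₃'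
  have i1 : R₁'⁻¹ = R₁ := by rw [hR₁', ← h.rn_eq, inv_inv]
  have i2 : R₂⁻¹ = R₂' := by rw [hR₂, hR₂', h.rn_eq]
  have hBtB : K (l₂ * l₂) * t * K (l₂ * l₂) = t := by
    rw [mul_assoc, h.t_K _ (mul_ne_zero h2 h2), ← mul_assoc, ← h.K_inv (mul_ne_zero h2 h2),
      mul_inv_cancel, one_mul]
  have key : t * (R₁ * R₂') * t =
      ((K (l₁ * l₁))⁻¹ * (R₁ * R₃')) * K (l₃ * l₃) * (t * ((R₃ * R₂') * K (l₂ * l₂))) := by
    calc t * (R₁ * R₂') * t
        = t * (R₁ * R₂') * (K (l₂ * l₂) * t * K (l₂ * l₂)) := by rw [hBtB]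
      _ = (K (l₁ * l₁))⁻¹ * R₁'⁻¹ *
            (R₁' * K (l₁ * l₁) * t * R₁ * (R₂' * K (l₂ * l₂) * t * R₂)) * R₂⁻¹ * K (l₂ * l₂) := by group
      _ = (K (l₁ * l₁))⁻¹ * R₁'⁻¹ * (R₃' * K (l₃ * l₃) * t * R₃) * R₂⁻¹ * K (l₂ * l₂) := by rw [hprod]
      _ = _ := by rw [i1, i2]; group
  rw [key, h.K_inv (mul_ne_zero h1 h1)]
  have hm1 : (l₁ * l₁)⁻¹ ≠ 0 := inv_ne_zero (mul_ne_zero h1 h1)
  have hm2 : (l₂ * l₂)⁻¹ ≠ 0 := inv_ne_zero (mul_ne_zero h2 h2)
  have eL : K (l₁ * l₁)⁻¹ * (R₁ * R₃') = X l₁⁻¹ (c * nm φ l₁⁻¹) *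
      X (l₃ / (l₁ * l₁)) ((c + 1) * nm φ (l₃ / (l₁ * l₁))) * K (l₁ * l₁)⁻¹ := by
    rw [← mul_assoc, hsc _ _ hm1, mul_assoc, hsc' _ _ hm1, ← mul_assoc,
      show (l₁ * l₁)⁻¹ * l₁ = l₁⁻¹ by field_simp, inv_mul_eq_div]
  have eR : (R₃ * R₂') * K (l₂ * l₂) = K (l₂ * l₂) * (X (l₃ / (l₂ * l₂)) (c * nm φ (l₃ / (l₂ * l₂))) *
      X l₂⁻¹ ((c + 1) * nm φ l₂⁻¹)) := by
    rw [← inv_mul_eq_iff_eq_mul, h.K_inv (mul_ne_zero h2 h2), ← mul_assoc, ← mul_assoc, hsc _ _ hm2,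
      mul_assoc (X _ _) (K _), hsc' _ _ hm2, ← mul_assoc, mul_assoc, ← h.K_mul _ _ hm2 (mul_ne_zero h2 h2),
      inv_mul_cancel₀ (mul_ne_zero h2 h2), h.K_one, mul_one,
      show (l₂ * l₂)⁻¹ * l₂ = l₂⁻¹ by field_simp, inv_mul_eq_div]
  rw [eL, eR, mul_assoc (X _ _ * X _ _) (K (l₁ * l₁)⁻¹), ← h.K_mul _ _ hm1 (mul_ne_zero h3 h3),
    ← mul_assoc t (K (l₂ * l₂)), h.t_K _ (mul_ne_zero h2 h2), mul_assoc (K (l₂ * l₂)⁻¹) t,
    ← mul_assoc _ (K (l₂ * l₂)⁻¹), mul_assoc (X _ _ * X _ _) (K _) (K (l₂ * l₂)⁻¹),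
    ← h.K_mul _ _ (mul_ne_zero hm1 (mul_ne_zero h3 h3)) hm2, ← mul_assoc _ t]
  congr 4
  field_simp

variable [Finite F]

theorem exists_nm (h : Frame φ c e X K t) (y : F) : ∃ x, nm φ x = y :=
  (Finite.injective_iff_surjective.1 h.nm_inj) y

theorem exists_nm_ne (h : Frame φ c e X K t) {y : F} (hy : y ≠ 0) : ∃ x, x ≠ 0 ∧ nm φ x = y := by
  obtain ⟨x, rfl⟩ := h.exists_nm y
  exact ⟨x, fun hx => hy (by rw [hx, nm_zero]), rfl⟩

/-- The third parameter attached to `u` and `1 + u`. -/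
theorem exists_third (h : Frame φ c e X K t) {u v : F} (hu : u ≠ 0) (hv : v ≠ 0) (hne : u ≠ v) :
    ∃ w, w ≠ 0 ∧ (nm φ u)⁻¹ + (nm φ v)⁻¹ = (nm φ w)⁻¹ := by
  have h0 : (nm φ u)⁻¹ + (nm φ v)⁻¹ ≠ 0 := fun e0 =>
    hne (h.nm_inj (inv_injective (CharTwo.add_eq_zero.1 e0)))
  obtain ⟨w, hw, e1⟩ := h.exists_nm_ne (inv_ne_zero h0)
  exact ⟨w, hw, by rw [e1, inv_inv]⟩

/-- The coordinate map of the orbits of pairs. -/
def lin (φ : F ≃+* F) (c : F) : F →+ F :=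
  AddMonoidHom.mk' (fun u => u + c * (u + φ u)) fun u v => by simp only [map_add]; ring

theorem lin_apply (u : F) : lin φ c u = u + c * (u + φ u) := rfl

/-- The point of an orbit of pairs. -/
theorem pair_point (h : Frame φ c e X K t) (a u : F) :
    X (a * (1 + u)) (c * nm φ (a * (1 + u))) * X (a * u) ((c + 1) * nm φ (a * u)) =
      X a (nm φ a * (c + lin φ c u)) := by
  rw [h.pair_eq, nm_mul, nm_mul, ← mul_add, ← mul_add (nm φ a), nm_one_add, add_assoc, CharTwo.add_self_eq_zero,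
    add_zero, mul_one, lin_apply]
  congr 1
  rw [nm]; ring

theorem lin_inj (h : Frame φ c e X K t) : Function.Injective (lin φ c) := by
  rw [injective_iff_map_eq_zero]
  intro u hu
  by_contra hu0
  have hu1 : u ≠ 1 := fun e1 => by
    rw [e1, lin_apply, map_one, CharTwo.add_self_eq_zero, mul_zero, add_zero] at hu
    exact one_ne_zero hu
  have hv : (1 + u) ≠ 0 := fun e1 => hu1 (CharTwo.add_eq_zero.1 e1).symm
  obtain ⟨w, hw, hsum⟩ := h.exists_third hv hu0 fun e1 => one_ne_zero (add_eq_right.1 e1)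
  have e1 := h.pair_form hv hu0 hw hsum
  have e2 := h.pair_point 1 u
  rw [one_mul, one_mul, hu, nm_one, one_mul, add_zero] at e2
  rw [e2, h.t_r_t, h.pair_eq, h.pair_eq] at e1
  obtain ⟨-, -, hl, hx, -⟩ := h.uniq _ _ _ _ _ _ _ _ _ _ one_ne_zero
    (mul_ne_zero (div_ne_zero hw (mul_ne_zero hv hu0)) (div_ne_zero hw (mul_ne_zero hv hu0))) e1
  have hwu : w = u := by
    have := CharTwo.add_eq_zero.1 hx.symm
    field_simp at this
    exact this
  rw [hwu] at hl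
  have h4 : (u / ((1 + u) * u) + 1) * (u / ((1 + u) * u) + 1) = 0 := by
    rw [CharTwo.add_mul_self, one_mul, ← hl, CharTwo.add_self_eq_zero]
  have h5 := CharTwo.add_eq_zero.1 (mul_self_eq_zero.1 h4)
  field_simp at h5
  exact hu0 (add_eq_left.1 h5.symm)

/-- The canonical form of `t x t`. -/
theorem exists_form (h : Frame φ c e X K t) {a b : F} (hab : a ≠ 0 ∨ b ≠ 0) :
    ∃ f₁ f₂ k g₁ g₂, k ≠ 0 ∧ t * X a b * t = X f₁ f₂ * K k * t * X g₁ g₂ := by
  rcases eq_or_ne a 0 with rfl | ha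
  · have hb : b ≠ 0 := hab.resolve_left fun h0 => h0 rfl
    obtain ⟨l, hl, e1⟩ := h.exists_nm_ne (div_ne_zero h.e_ne hb)
    exact ⟨_, _, _, _, _, mul_ne_zero hl hl, h.center_form hl (by rw [e1, div_mul_cancel₀ _ hb])⟩
  obtain ⟨u, hu⟩ := (Finite.injective_iff_surjective.1 h.lin_inj) (b / nm φ a + c)
  have hb : b = nm φ a * (c + lin φ c u) := by
    rw [hu, add_comm (b / _), ← add_assoc, CharTwo.add_self_eq_zero, zero_add,
      mul_div_cancel₀ _ (nm_ne_zero ha)]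
  have hr : t * X a (c * nm φ a) * t =
      X a⁻¹ (c * nm φ a⁻¹) * K ((a * a)⁻¹) * t * X 0 (e / nm φ a) := by
    have h1 : X a (c * nm φ a) = K a * X 1 c * (K a)⁻¹ := by
      rw [h.conj a ha, mul_one, mul_inv_cancel_right, nm, mul_comm c]
    have h2 : (K a)⁻¹ * X 1 c = X a⁻¹ (c * nm φ a⁻¹) * (K a)⁻¹ := by
      rw [h.K_inv ha, h.conj _ (inv_ne_zero ha), mul_one, nm, mul_comm c]
    have h3 : X 0 e * K a = K a * X 0 (e / nm φ a) := by
      rw [h.conj' ha, mul_zero, nm, map_inv₀, div_eq_mul_inv, mul_inv, mul_comm e]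
    calc t * X a (c * nm φ a) * t = (t * K a) * X 1 c * ((K a)⁻¹ * t) := by rw [h1]; group
      _ = ((K a)⁻¹ * t) * X 1 c * (t * K a) := by
          have a1 : t * K a = (K a)⁻¹ * t := by rw [h.K_inv ha, h.t_K a ha]
          rw [← a1]
      _ = (K a)⁻¹ * (t * X 1 c * t) * K a := by group
      _ = ((K a)⁻¹ * X 1 c) * t * (X 0 e * K a) := by rw [h.t_r_t, h.K_one]; group
      _ = X a⁻¹ (c * nm φ a⁻¹) * ((K a)⁻¹ * (t * K a)) * X 0 (e / nm φ a) := by rw [h2, h3]; group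
      _ = _ := by
          rw [h.t_K a ha, h.K_inv ha, mul_inv, h.K_mul _ _ (inv_ne_zero ha) (inv_ne_zero ha)]
          group
  rcases eq_or_ne u 0 with rfl | hu0
  · rw [map_zero, add_zero, mul_comm] at hb
    exact ⟨_, _, _, _, _, inv_ne_zero (mul_ne_zero ha ha), hb ▸ hr⟩
  rcases eq_or_ne u 1 with rfl | hu1
  · rw [lin_apply, map_one, CharTwo.add_self_eq_zero, mul_zero, add_zero, mul_comm] at hb
    refine ⟨0, e / nm φ a, (a * a)⁻¹, a⁻¹, (c + 1) * nm φ a⁻¹, inv_ne_zero (mul_ne_zero ha ha), ?_⟩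
    have haa := mul_ne_zero ha ha
    rw [← h.K_inv haa] at hr
    have h1 := congrArg (fun x => x⁻¹) hr
    simp only [mul_inv_rev, inv_inv, h.t_inv, h.rn_eq] at h1
    rw [h.X_inv, show φ 0 * 0 = (0 : F) from mul_zero _, add_zero] at h1
    rw [hb, mul_assoc, h1, mul_assoc (X 0 _) (K _) t, ← h.t_K _ haa]
    group
  have hv : (1 + u) ≠ 0 := fun e1 => hu1 (CharTwo.add_eq_zero.1 e1).symm
  obtain ⟨w, hw, hsum⟩ := h.exists_third (u := a * (1 + u)) (v := a * u) (mul_ne_zero ha hv)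
    (mul_ne_zero ha hu0) fun e1 => one_ne_zero (add_eq_right.1 (mul_left_cancel₀ ha e1))
  have hne := div_ne_zero hw (mul_ne_zero (mul_ne_zero ha hv) (mul_ne_zero ha hu0))
  have e1 := h.pair_form (mul_ne_zero ha hv) (mul_ne_zero ha hu0) hw hsum
  rw [h.pair_point, ← hb, h.pair_eq, h.pair_eq] at e1
  exact ⟨_, _, _, _, _, mul_ne_zero hne hne, e1⟩

end Frame

end Cfsg.Agent.Involutions.RankOne.Sz
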