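import Cfsg.Agent.Lib.Involutions.RankOne.Sz.Classify
import Cfsg.Agent.Lib.Suzuki.Group
import Cfsg.Agent.Lib.Suzuki.LieEquiv
import Cfsg.Prelude.Def_Sz

/-!
# The frame of the Suzuki group, and the group generated by any frame

The group generated by a frame whose automorphism is nontrivial of odd order is a Suzuki group.
-/

set_option autoImplicit false
set_option linter.style.haveILetI false
set_option linter.unusedSectionVars false

namespace Cfsg.Agent.Involutions.RankOne.Sz

open Cfsg.Agent.Suzuki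

open scoped Classical

variable {F : Type} [Field F] [Fintype F] [CharP F 2]

theorem exists_pow_four (φ : F ≃+* F) (hφ : φ ≠ RingEquiv.refl F) (hodd : Odd (orderOf φ)) :
    ∃ x : F, x * x * (x * x) ≠ x := by
  by_contra! hall
  have h2 : ∀ x, φ (φ x) = x := by
    intro x
    rcases eq_or_ne x 0 with rfl | hx0
    · simp
    rcases eq_or_ne x 1 with rfl | hx1
    · simp
    have hx : ∀ y : F, y ≠ 0 → y ≠ 1 → y * y + y + 1 = 0 := fun y hy hy1 => by
      refine (mul_eq_zero.1 (?_ : y * (1 + y) * _ = 0)).resolve_left (mul_ne_zero hy (ne_of_one_add hy1))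
      linear_combination (norm := (ring_nf <;> reduce_mod_char!)) hall y
    have h3 := hx (φ x) ((map_ne_zero φ).2 hx0) (fun e1 => hx1 (φ.map_eq_one_iff.1 e1))
    have h4 : (φ x + x) * (φ x + (x + 1)) = 0 := by
      linear_combination (norm := (ring_nf <;> reduce_mod_char!)) h3 + hx x hx0 hx1
    rcases mul_eq_zero.1 h4 with h5 | h5
    · rw [CharTwo.add_eq_zero.1 h5, CharTwo.add_eq_zero.1 h5]
    · rw [CharTwo.add_eq_zero.1 h5, map_add, map_one, CharTwo.add_eq_zero.1 h5, add_assoc,
        CharTwo.add_self_eq_zero, add_zero]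
  have h6 : φ ^ 2 = 1 := by
    rw [pow_two]
    exact RingEquiv.ext h2
  have h7 := (Nat.dvd_prime Nat.prime_two).1 (orderOf_dvd_of_pow_eq_one h6)
  rcases h7 with h7 | h7
  · exact hφ (orderOf_eq_one_iff.1 h7)
  · rw [h7] at hodd
    exact absurd hodd (by decide)

/-- An automorphism of odd order which squares to the Frobenius map is a power of it. -/
theorem exists_m {ψ : F ≃+* F} (hodd : Odd (orderOf ψ)) (hsq : ∀ x, ψ (ψ x) = x * x)
    (h4 : ∃ x : F, x * x * (x * x) ≠ x) :
    ∃ m, 1 ≤ m ∧ Fintype.card F = 2 ^ (2 * m + 1) ∧ ∀ x, ψ x = x ^ 2 ^ (m + 1) := by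
  haveI := Fact.mk Nat.prime_two
  obtain ⟨n, -, hcard⟩ := FiniteField.card F 2
  have hpow : ∀ (k : ℕ) (x : F), (ψ ^ (2 * k)) x = x ^ 2 ^ k := by
    intro k
    induction k with
    | zero => intro x; simp
    | succ k ih =>
      intro x
      rw [show 2 * (k + 1) = 2 * k + 1 + 1 by ring, pow_succ', pow_succ']
      show ψ (ψ ((ψ ^ (2 * k)) x)) = _
      rw [hsq, ih, ← pow_add, pow_succ, mul_two]
  have hn : ψ ^ (n : ℕ) = 1 := by
    have h1 : ψ ^ (2 * (n : ℕ)) = 1 := RingEquiv.ext fun x => by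
      rw [hpow, ← hcard, FiniteField.pow_card]
      rfl
    have h2 := orderOf_dvd_of_pow_eq_one h1
    exact orderOf_dvd_iff_pow_eq_one.1
      ((Nat.Coprime.dvd_of_dvd_mul_left (Nat.coprime_two_right.2 hodd) h2))
  rcases Nat.even_or_odd' (n : ℕ) with ⟨k, hk | hk⟩
  · exfalso
    have hall : ∀ x : F, x ^ 2 ^ k = x := fun x => by
      rw [← hpow, ← hk, hn]; rfl
    obtain ⟨g, hg⟩ := IsCyclic.exists_ofOrder_eq_natCard (α := Fˣ)
    have hk0 : 0 < k := by have := n.pos; omega
    have h1 : g ^ (2 ^ k - 1) = 1 := by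
      refine mul_right_cancel (b := g) ?_
      rw [← pow_succ, Nat.sub_add_cancel Nat.one_le_two_pow, one_mul]
      exact Units.ext (by rw [Units.val_pow_eq_pow_val]; exact hall g)
    have h2 := Nat.le_of_dvd (by
      have : 2 ≤ 2 ^ k := Nat.le_self_pow (by omega) 2
      omega) (orderOf_dvd_of_pow_eq_one h1)
    rw [hg, Nat.card_units, Nat.card_eq_fintype_card, hcard] at h2
    have : 2 ^ k < 2 ^ (n : ℕ) := Nat.pow_lt_pow_right one_lt_two (by omega)
    have := Nat.one_le_two_pow (n := k)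
    omega
  · refine ⟨k, ?_, by rw [hcard, hk], fun x => ?_⟩
    · rcases Nat.eq_zero_or_pos k with rfl | hk0
      · exfalso
        obtain ⟨x, hx⟩ := h4
        refine hx ?_
        have h1 : x ^ Fintype.card F = x := FiniteField.pow_card x
        rw [hcard, hk, show 2 ^ (2 * 0 + 1) = 2 from rfl, pow_two] at h1
        rw [h1, h1]
      · exact hk0
    · rw [← hpow, show 2 * (k + 1) = (2 * k + 1) + 1 by ring, pow_succ, ← hk, hn, one_mul]

variable {m : ℕ} (hm : 1 ≤ m) (hF : Fintype.card F = 2 ^ (2 * m + 1))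

/-- The automorphism of the Suzuki group. -/
noncomputable def thetaEquiv : F ≃+* F := RingEquiv.ofBijective (theta F m) (theta_bijective hF)

theorem thetaEquiv_apply (x : F) : thetaEquiv hF x = x ^ 2 ^ (m + 1) := theta_def x

/-- The torus element with first scaling factor `l`. -/
noncomputable def szK (l : F) : Cfsg.Sz F m :=
  if h : l = 0 then 1 else tor hF (Units.mk0 ((thetaEquiv hF).symm l) ((map_ne_zero _).2 h))

theorem szK_of_ne {l : F} (h : l ≠ 0) :
    szK hF l = tor hF (Units.mk0 ((thetaEquiv hF).symm l) ((map_ne_zero _).2 h)) := dif_neg h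

theorem szK_fix {l : F} (h : l ≠ 0) :
    szK hF l • infty (F := F) m = infty m ∧ szK hF l • point (F := F) m 0 0 = point m 0 0 := by
  rw [szK_of_ne hF h]
  exact ⟨tor_smul_infty hF _, tor_smul_zero hF _⟩

include hm in
/-- The Suzuki group has a frame. -/
theorem szFrame : Frame (thetaEquiv hF) 1 1 (tr hF) (szK hF) (sw hF : Cfsg.Sz F m) where
  e_ne := one_ne_zero
  nm_inj x y e1 := by
    rcases eq_or_ne y 0 with rfl | hy
    · rw [nm_zero, nm] at e1
      rcases mul_eq_zero.1 e1 with h1 | h1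
      · exact (map_eq_zero _).1 h1
      · exact h1
    · have h1 : nm (thetaEquiv hF) (x / y) = 1 := by rw [nm_div, e1, div_self (nm_ne_zero hy)]
      exact eq_of_div_eq_one (eq_one_of_theta_mul hF (m := m) h1)
  X_mul a b a' b' := by rw [tr_mul, thetaEquiv_apply]
  K_mul l k hl hk := by
    rw [szK_of_ne hF (mul_ne_zero hl hk), szK_of_ne hF hl, szK_of_ne hF hk, ← tor_mul]
    congr 1
    exact Units.ext (map_mul _ _ _)
  conj l hl a b := by
    rw [szK_of_ne hF hl, tor_mul_tr, Units.val_mk0, ← thetaEquiv_apply hF, RingEquiv.apply_symm_apply]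
    congr 2
    conv_rhs => rw [← (thetaEquiv hF).apply_symm_apply l]
    rw [show thetaEquiv hF (thetaEquiv hF ((thetaEquiv hF).symm l)) = (thetaEquiv hF).symm l ^ 2 from
      theta_theta hF _, RingEquiv.apply_symm_apply]
    ring
  t_t := sw_mul_self hF
  t_K l hl := by
    rw [szK_of_ne hF hl, szK_of_ne hF (inv_ne_zero hl)]
    apply Subtype.ext
    apply Subtype.ext
    show swapMat * torusMat m _ = torusMat m _ * swapMat
    have hs : (thetaEquiv hF).symm l ≠ 0 := (map_ne_zero _).2 hl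
    ext i j
    rw [torusMat, torusMat, Matrix.diagonal_mul, Matrix.mul_diagonal]
    fin_cases i <;> fin_cases j <;> simp [swapMat, map_inv₀] <;> field_simp
  base := by
    rw [tr_inv]
    apply Subtype.ext
    apply Subtype.ext
    show swapMat * transMat m 0 1 * swapMat = transMat m 1 (1 + (1 : F) ^ 2 ^ (m + 1) * 1) * swapMat *
      transMat m 1 1
    rw [one_pow, one_mul, CharTwo.add_self_eq_zero]
    have h0 : (0 : F) ^ 2 ^ (m + 1) = 0 := zero_pow (pow_ne_zero _ two_ne_zero)
    have h0' : (0 : F) ^ (2 ^ (m + 1) + 2) = 0 := zero_pow (by positivity)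
    ext i j
    fin_cases i <;> fin_cases j <;>
      simp [Matrix.mul_apply, Fin.sum_univ_four, transMat, swapMat, ovf, h0, h0',
        CharTwo.add_self_eq_zero]
  uniq a b l x y a' b' l' x' y' hl hl' e1 := by
    have h1 := congrArg (fun g : Cfsg.Sz F m => g • infty (F := F) m) e1
    simp only [mul_smul, tr_smul_infty, sw_smul_infty, (szK_fix hF hl).2, (szK_fix hF hl').2,
      tr_smul_zero] at h1
    obtain ⟨rfl, rfl⟩ := point_injective h1
    rw [mul_assoc, mul_assoc, mul_assoc (tr hF a b), mul_assoc (tr hF a b), mul_left_cancel_iff] at e1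
    have e2 := congrArg (fun g : Cfsg.Sz F m => g⁻¹ • infty (F := F) m) e1
    have hk : ∀ k : F, k ≠ 0 → (szK hF k)⁻¹ • infty (F := F) m = infty m := fun k hk =>
      inv_smul_eq_iff.2 (szK_fix hF hk).1.symm
    have hsw : (sw hF)⁻¹ = (sw hF : Cfsg.Sz F m) := inv_eq_of_mul_eq_one_right (sw_mul_self hF)
    simp only [mul_inv_rev, mul_smul, hk l hl, hk l' hl', hsw, sw_smul_infty, tr_inv,
      tr_smul_zero] at e2
    obtain ⟨rfl, h3⟩ := point_injective e2
    obtain rfl := add_right_cancel h3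
    simp only [← mul_assoc, mul_right_cancel_iff] at e1
    rw [szK_of_ne hF hl,
      szK_of_ne hF hl'] at e1
    have h4 := congrArg Units.val (tor_injective hF e1)
    exact ⟨rfl, rfl, (thetaEquiv hF).symm.injective h4, rfl, rfl⟩
  ne_one a b l x y hl e1 := by
    have h1 := congrArg (fun g : Cfsg.Sz F m => g • infty (F := F) m) e1
    simp only [mul_smul, tr_smul_infty, sw_smul_infty, (szK_fix hF hl).2, tr_smul_zero, one_smul] at h1
    exact point_ne_infty a b h1
  eq_one a b l hl e1 := by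
    have h1 := congrArg (fun g : Cfsg.Sz F m => g • point (F := F) m 0 0) e1
    simp only [mul_smul, (szK_fix hF hl).2, tr_smul_zero, one_smul] at h1
    obtain ⟨rfl, rfl⟩ := point_injective h1
    rw [tr_zero, one_mul, szK_of_ne hF hl, ← tor_one hF] at e1
    have h4 : (thetaEquiv hF).symm l = 1 := congrArg Units.val (tor_injective hF e1)
    exact ⟨rfl, rfl, (thetaEquiv hF).symm.map_eq_one_iff.1 h4⟩

include hm in
theorem szForm (g : Cfsg.Sz F m) : IsForm (tr hF) (szK hF) (sw hF) g := by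
  have h := szFrame hm hF
  have hK : ∀ s : Fˣ, tor hF s = szK hF (thetaEquiv hF (s : F)) := fun s => by
    rw [szK_of_ne hF ((map_ne_zero _).2 s.ne_zero)]
    congr 1
    exact Units.ext ((thetaEquiv hF).symm_apply_apply _).symm
  have hne : ∀ s : Fˣ, thetaEquiv hF (s : F) ≠ 0 := fun s => (map_ne_zero _).2 s.ne_zero
  have h0 : ∀ a b : F, IsForm (tr hF) (szK hF) (sw hF : Cfsg.Sz F m) (tr hF a b) := fun a b =>
    Or.inl ⟨a, b, 1, one_ne_zero, by rw [h.K_one, mul_one]⟩
  rcases bruhat hm hF g with ⟨a, b, s, rfl⟩ | ⟨a, b, x, y, s, rfl⟩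
  · rw [hK]
    exact Or.inl ⟨a, b, _, hne s, rfl⟩
  · rw [hK, ← mul_assoc]
    exact h.form_mul_K (h.form_mul_X (h.form_mul_t (h0 a b)) x y) (hne s)

omit hm hF in
/-- A frame with nontrivial automorphism of odd order generates a Suzuki group. -/
theorem isoSuzuki_gen {G : Type*} [Group G] {φ : F ≃+* F} {c e : F} {X : F → F → G} {K : F → G}
    {t : G} (h : Frame φ c e X K t) (hφ : φ ≠ RingEquiv.refl F) (hodd : Odd (orderOf φ)) :
    Cfsg.Lie.IsoSuzuki ↥(gen X K t) := by
  have h4 := exists_pow_four φ hφ hodd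
  obtain ⟨ψ, X', K', h', hsq, hψ, hgen⟩ := h.normalise hφ h4
  have hodd' : Odd (orderOf ψ) := by
    rcases hψ with rfl | rfl
    · exact hodd
    · rwa [show φ.symm = φ⁻¹ from rfl, orderOf_inv]
  obtain ⟨m, hm, hF, hψm⟩ := exists_m hodd' hsq h4
  obtain rfl : ψ = thetaEquiv hF := RingEquiv.ext fun x => by rw [hψm, thetaEquiv_apply]
  obtain ⟨f, hf, hfX, hfK, hft⟩ := (szFrame hm hF).exists_hom h' (szForm hm hF)
  have hrange : f.range = gen X' K' t := by
    refine le_antisymm ?_ ((Subgroup.closure_le _).2 ?_)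
    · rintro _ ⟨g, rfl⟩
      rcases szForm hm hF g with ⟨a, b, l, hl, rfl⟩ | ⟨a, b, l, x, y, hl, rfl⟩
      · rw [map_mul, hfX, hfK l hl]
        exact mul_mem (X_mem_gen a b) (K_mem_gen hl)
      · rw [map_mul, map_mul, map_mul, hfX, hfX, hfK l hl, hft]
        exact mul_mem (mul_mem (mul_mem (X_mem_gen a b) (K_mem_gen hl)) t_mem_gen) (X_mem_gen x y)
    · rintro g ((⟨p, rfl⟩ | ⟨l, hl, rfl⟩) | rfl)
      · exact ⟨_, hfX p.1 p.2⟩
      · exact ⟨_, hfK l hl⟩
      · exact ⟨_, hft⟩
  obtain ⟨e₁⟩ := lieEquiv (F := F) hm hF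
  exact ⟨F, inferInstance, inferInstance, m, hm, hF,
    ⟨((MulEquiv.subgroupCongr (hrange.trans hgen)).symm.trans (MonoidHom.ofInjective hf).symm).trans e₁⟩⟩

end Cfsg.Agent.Involutions.RankOne.Sz
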